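import Cfsg.Agent.Lib.H34.Fi23a.DataA
import Cfsg.Agent.Lib.H34.Fi23a.DataB

/-! Coset enumeration certificate (generated): tables. -/

set_option autoImplicit false
set_option maxRecDepth 100000
set_option Elab.async false

noncomputable section

namespace H34.Fi23a

open H34.T2

noncomputable def F0 (x : Nat) : Nat := (Nat.land (Nat.shiftRight (Bool.rec (motive := fun _ => Nat) (Bool.rec (motive := fun _ => Nat) (Bool.rec (motive := fun _ => Nat) C0_0 C0_1 (Nat.ble (nat_lit 4096) x)) (Bool.rec (motive := fun _ => Nat) C0_2 (Bool.rec (motive := fun _ => Nat) C0_3 C0_4 (Nat.ble (nat_lit 16384) x)) (Nat.ble (nat_lit 12288) x)) (Nat.ble (nat_lit 8192) x)) (Bool.rec (motive := fun _ => Nat) (Bool.rec (motive := fun _ => Nat) C0_5 C0_6 (Nat.ble (nat_lit 24576) x)) (Bool.rec (motive := fun _ => Nat) C0_7 (Bool.rec (motive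 := fun _ => Nat) C0_8 C0_9 (Nat.ble (nat_lit 36864) x)) (Nat.ble (nat_lit 32768) x)) (Nat.ble (nat_lit 28672) x)) (Nat.ble (nat_lit 20480) x)) (Nat.mul (Nat.land x (nat_lit 4095)) (nat_lit 44))) (nat_lit 17592186044415))
noncomputable def F1 (x : Nat) : Nat := (Nat.land (Nat.shiftRight (Bool.rec (motive := fun _ => Nat) (Bool.rec (motive := fun _ => Nat) (Bool.rec (motive := fun _ => Nat) C1_0 C1_1 (Nat.ble (nat_lit 4096) x)) (Bool.rec (motive := fun _ => Nat) C1_2 (Bool.rec (motive := fun _ => Nat) C1_3 C1_4 (Nat.ble (nat_lit 16384) x)) (Nat.ble (nat_lit 12288) x)) (Nat.ble (nat_lit 8192) x)) (Bool.rec (motive := fun _ => Nat) (Bool.rec (motive := fun _ => Nat) C1_5 C1_6 (Nat.ble (nat_lit 24576) x)) (Bool.rec (motive := fun _ => Nat) C1_7 (Bool.rec (motive := fun _ => Nat) C1_8 C1_9 (Nat.ble (nat_lit 36864) x))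 (Nat.ble (nat_lit 32768) x)) (Nat.ble (nat_lit 28672) x)) (Nat.ble (nat_lit 20480) x)) (Nat.mul (Nat.land x (nat_lit 4095)) (nat_lit 44))) (nat_lit 17592186044415))
noncomputable def F2 (x : Nat) : Nat := (Nat.land (Nat.shiftRight (Bool.rec (motive := fun _ => Nat) (Bool.rec (motive := fun _ => Nat) (Bool.rec (motive := fun _ => Nat) C2_0 C2_1 (Nat.ble (nat_lit 4096) x)) (Bool.rec (motive := fun _ => Nat) C2_2 (Bool.rec (motive := fun _ => Nat) C2_3 C2_4 (Nat.ble (nat_lit 16384) x)) (Nat.ble (nat_lit 12288) x)) (Nat.ble (nat_lit 8192) x)) (Bool.rec (motive := fun _ => Nat) (Bool.rec (motive := fun _ => Nat) C2_5 C2_6 (Nat.ble (nat_lit 24576) x)) (Bool.rec (motive := fun _ => Nat) C2_7 (Bool.rec (motive := fun _ => Nat) C2_8 C2_9 (Nat.ble (nat_lit 36864) x)) (Nat.ble (nat_lit 32768) x)) (Nat.ble (nat_lit 28672)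 x)) (Nat.ble (nat_lit 20480) x)) (Nat.mul (Nat.land x (nat_lit 4095)) (nat_lit 44))) (nat_lit 17592186044415))
noncomputable def F3 (x : Nat) : Nat := (Nat.land (Nat.shiftRight (Bool.rec (motive := fun _ => Nat) (Bool.rec (motive := fun _ => Nat) (Bool.rec (motive := fun _ => Nat) C3_0 C3_1 (Nat.ble (nat_lit 4096) x)) (Bool.rec (motive := fun _ => Nat) C3_2 (Bool.rec (motive := fun _ => Nat) C3_3 C3_4 (Nat.ble (nat_lit 16384) x)) (Nat.ble (nat_lit 12288) x)) (Nat.ble (nat_lit 8192) x)) (Bool.rec (motive := fun _ => Nat) (Bool.rec (motive := fun _ => Nat) C3_5 C3_6 (Nat.ble (nat_lit 24576) x)) (Bool.rec (motive := fun _ => Nat) C3_7 (Bool.rec (motive := fun _ => Nat) C3_8 C3_9 (Nat.ble (nat_lit 36864) x)) (Nat.ble (nat_lit 32768) x)) (Nat.ble (nat_lit 28672) x)) (Nat.ble (nat_lit 20480) x)) (Nat.mul (Nat.land x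 (nat_lit 4095)) (nat_lit 44))) (nat_lit 17592186044415))
noncomputable def F4 (x : Nat) : Nat := (Nat.land (Nat.shiftRight (Bool.rec (motive := fun _ => Nat) (Bool.rec (motive := fun _ => Nat) (Bool.rec (motive := fun _ => Nat) C4_0 C4_1 (Nat.ble (nat_lit 4096) x)) (Bool.rec (motive := fun _ => Nat) C4_2 (Bool.rec (motive := fun _ => Nat) C4_3 C4_4 (Nat.ble (nat_lit 16384) x)) (Nat.ble (nat_lit 12288) x)) (Nat.ble (nat_lit 8192) x)) (Bool.rec (motive := fun _ => Nat) (Bool.rec (motive := fun _ => Nat) C4_5 C4_6 (Nat.ble (nat_lit 24576) x)) (Bool.rec (motive := fun _ => Nat) C4_7 (Bool.rec (motive := fun _ => Nat) C4_8 C4_9 (Nat.ble (nat_lit 36864) x)) (Nat.ble (nat_lit 32768) x)) (Nat.ble (nat_lit 28672) x)) (Nat.ble (nat_lit 20480) x)) (Nat.mul (Nat.land x (nat_lit 4095)) (nat_lit 44))) (nat_lit 17592186044415))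
noncomputable def F5 (x : Nat) : Nat := (Nat.land (Nat.shiftRight (Bool.rec (motive := fun _ => Nat) (Bool.rec (motive := fun _ => Nat) (Bool.rec (motive := fun _ => Nat) C5_0 C5_1 (Nat.ble (nat_lit 4096) x)) (Bool.rec (motive := fun _ => Nat) C5_2 (Bool.rec (motive := fun _ => Nat) C5_3 C5_4 (Nat.ble (nat_lit 16384) x)) (Nat.ble (nat_lit 12288) x)) (Nat.ble (nat_lit 8192) x)) (Bool.rec (motive := fun _ => Nat) (Bool.rec (motive := fun _ => Nat) C5_5 C5_6 (Nat.ble (nat_lit 24576) x)) (Bool.rec (motive := fun _ => Nat) C5_7 (Bool.rec (motive := fun _ => Nat) C5_8 C5_9 (Nat.ble (nat_lit 36864) x)) (Nat.ble (nat_lit 32768) x)) (Nat.ble (nat_lit 28672) x)) (Nat.ble (nat_lit 20480) x)) (Nat.mul (Nat.land x (nat_lit 4095)) (nat_lit 44))) (nat_lit 17592186044415))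
noncomputable def F6 (x : Nat) : Nat := (Nat.land (Nat.shiftRight (Bool.rec (motive := fun _ => Nat) (Bool.rec (motive := fun _ => Nat) (Bool.rec (motive := fun _ => Nat) C6_0 C6_1 (Nat.ble (nat_lit 4096) x)) (Bool.rec (motive := fun _ => Nat) C6_2 (Bool.rec (motive := fun _ => Nat) C6_3 C6_4 (Nat.ble (nat_lit 16384) x)) (Nat.ble (nat_lit 12288) x)) (Nat.ble (nat_lit 8192) x)) (Bool.rec (motive := fun _ => Nat) (Bool.rec (motive := fun _ => Nat) C6_5 C6_6 (Nat.ble (nat_lit 24576) x)) (Bool.rec (motive := fun _ => Nat) C6_7 (Bool.rec (motive := fun _ => Nat) C6_8 C6_9 (Nat.ble (nat_lit 36864) x)) (Nat.ble (nat_lit 32768) x)) (Nat.ble (nat_lit 28672) x)) (Nat.ble (nat_lit 20480) x)) (Nat.mul (Nat.land x (nat_lit 4095)) (nat_lit 44))) (nat_lit 17592186044415))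
noncomputable def F7 (x : Nat) : Nat := (Nat.land (Nat.shiftRight (Bool.rec (motive := fun _ => Nat) (Bool.rec (motive := fun _ => Nat) (Bool.rec (motive := fun _ => Nat) C7_0 C7_1 (Nat.ble (nat_lit 4096) x)) (Bool.rec (motive := fun _ => Nat) C7_2 (Bool.rec (motive := fun _ => Nat) C7_3 C7_4 (Nat.ble (nat_lit 16384) x)) (Nat.ble (nat_lit 12288) x)) (Nat.ble (nat_lit 8192) x)) (Bool.rec (motive := fun _ => Nat) (Bool.rec (motive := fun _ => Nat) C7_5 C7_6 (Nat.ble (nat_lit 24576) x)) (Bool.rec (motive := fun _ => Nat) C7_7 (Bool.rec (motive := fun _ => Nat) C7_8 C7_9 (Nat.ble (nat_lit 36864) x)) (Nat.ble (nat_lit 32768) x)) (Nat.ble (nat_lit 28672) x)) (Nat.ble (nat_lit 20480) x)) (Nat.mul (Nat.land x (nat_lit 4095)) (nat_lit 44))) (nat_lit 17592186044415))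
noncomputable def F8 (x : Nat) : Nat := (Nat.land (Nat.shiftRight (Bool.rec (motive := fun _ => Nat) (Bool.rec (motive := fun _ => Nat) (Bool.rec (motive := fun _ => Nat) C8_0 C8_1 (Nat.ble (nat_lit 4096) x)) (Bool.rec (motive := fun _ => Nat) C8_2 (Bool.rec (motive := fun _ => Nat) C8_3 C8_4 (Nat.ble (nat_lit 16384) x)) (Nat.ble (nat_lit 12288) x)) (Nat.ble (nat_lit 8192) x)) (Bool.rec (motive := fun _ => Nat) (Bool.rec (motive := fun _ => Nat) C8_5 C8_6 (Nat.ble (nat_lit 24576) x)) (Bool.rec (motive := fun _ => Nat) C8_7 (Bool.rec (motive := fun _ => Nat) C8_8 C8_9 (Nat.ble (nat_lit 36864) x)) (Nat.ble (nat_lit 32768) x)) (Nat.ble (nat_lit 28672) x)) (Nat.ble (nat_lit 20480) x)) (Nat.mul (Nat.land x (nat_lit 4095)) (nat_lit 44))) (nat_lit 17592186044415))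
noncomputable def F9 (x : Nat) : Nat := (Nat.land (Nat.shiftRight (Bool.rec (motive := fun _ => Nat) (Bool.rec (motive := fun _ => Nat) (Bool.rec (motive := fun _ => Nat) C9_0 C9_1 (Nat.ble (nat_lit 4096) x)) (Bool.rec (motive := fun _ => Nat) C9_2 (Bool.rec (motive := fun _ => Nat) C9_3 C9_4 (Nat.ble (nat_lit 16384) x)) (Nat.ble (nat_lit 12288) x)) (Nat.ble (nat_lit 8192) x)) (Bool.rec (motive := fun _ => Nat) (Bool.rec (motive := fun _ => Nat) C9_5 C9_6 (Nat.ble (nat_lit 24576) x)) (Bool.rec (motive := fun _ => Nat) C9_7 (Bool.rec (motive := fun _ => Nat) C9_8 C9_9 (Nat.ble (nat_lit 36864) x)) (Nat.ble (nat_lit 32768) x)) (Nat.ble (nat_lit 28672) x)) (Nat.ble (nat_lit 20480) x)) (Nat.mul (Nat.land x (nat_lit 4095)) (nat_lit 44))) (nat_lit 17592186044415))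
noncomputable def E (x : Nat) : Nat := (Nat.land (Nat.shiftRight (Bool.rec (motive := fun _ => Nat) (Bool.rec (motive := fun _ => Nat) (Bool.rec (motive := fun _ => Nat) CE_0 CE_1 (Nat.ble (nat_lit 4096) x)) (Bool.rec (motive := fun _ => Nat) CE_2 (Bool.rec (motive := fun _ => Nat) CE_3 CE_4 (Nat.ble (nat_lit 16384) x)) (Nat.ble (nat_lit 12288) x)) (Nat.ble (nat_lit 8192) x)) (Bool.rec (motive := fun _ => Nat) (Bool.rec (motive := fun _ => Nat) CE_5 CE_6 (Nat.ble (nat_lit 24576) x)) (Bool.rec (motive := fun _ => Nat) CE_7 (Bool.rec (motive := fun _ => Nat) CE_8 CE_9 (Nat.ble (nat_lit 36864) x)) (Nat.ble (nat_lit 32768) x)) (Nat.ble (nat_lit 28672) x)) (Nat.ble (nat_lit 20480) x)) (Nat.mul (Nat.land x (nat_lit 4095)) (nat_lit 44))) (nat_lit 17592186044415))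
noncomputable def D (x : Nat) : Nat := (Nat.land (Nat.shiftRight (Bool.rec (motive := fun _ => Nat) (Bool.rec (motive := fun _ => Nat) (Bool.rec (motive := fun _ => Nat) CD_0 CD_1 (Nat.ble (nat_lit 4096) x)) (Bool.rec (motive := fun _ => Nat) CD_2 (Bool.rec (motive := fun _ => Nat) CD_3 CD_4 (Nat.ble (nat_lit 16384) x)) (Nat.ble (nat_lit 12288) x)) (Nat.ble (nat_lit 8192) x)) (Bool.rec (motive := fun _ => Nat) (Bool.rec (motive := fun _ => Nat) CD_5 CD_6 (Nat.ble (nat_lit 24576) x)) (Bool.rec (motive := fun _ => Nat) CD_7 (Bool.rec (motive := fun _ => Nat) CD_8 CD_9 (Nat.ble (nat_lit 36864) x)) (Nat.ble (nat_lit 32768) x)) (Nat.ble (nat_lit 28672) x)) (Nat.ble (nat_lit 20480) x)) (Nat.mul (Nat.land x (nat_lit 4095)) (nat_lit 25))) (nat_lit 33554431))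
noncomputable def enL : List (Nat → Nat) := [F0, F1, F2, F3, F4, F5, F6, F7, F8, F9]
noncomputable def base : List (List Nat) := [[0,0],
  [1,1],
  [2,2],
  [3,3],
  [4,4],
  [5,5],
  [6,6],
  [7,7],
  [8,8],
  [9,9],
  [0,1,0,1,0,1],
  [0,2,0,2],
  [0,3,0,3],
  [0,4,0,4],
  [0,5,0,5],
  [0,6,0,6],
  [0,7,0,7],
  [0,8,0,8],
  [0,9,0,9],
  [1,2,1,2,1,2],
  [1,3,1,3],
  [1,4,1,4],
  [1,5,1,5],
  [1,6,1,6],
  [1,7,1,7],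
  [1,8,1,8],
  [1,9,1,9],
  [2,3,2,3,2,3],
  [2,4,2,4],
  [2,5,2,5],
  [2,6,2,6],
  [2,7,2,7],
  [2,8,2,8],
  [2,9,2,9],
  [3,4,3,4,3,4],
  [3,5,3,5],
  [3,6,3,6],
  [3,7,3,7],
  [3,8,3,8,3,8],
  [3,9,3,9],
  [4,5,4,5,4,5],
  [4,6,4,6],
  [4,7,4,7],
  [4,8,4,8],
  [4,9,4,9],
  [5,6,5,6,5,6],
  [5,7,5,7],
  [5,8,5,8],
  [5,9,5,9],
  [6,7,6,7,6,7],
  [6,8,6,8],
  [6,9,6,9],
  [7,8,7,8],
  [7,9,7,9],
  [8,9,8,9,8,9],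
  [3,2,1,3,4,5,3,8,9,3,2,1,3,4,5,3,8,9,3,2,1,3,4,5,3,8,9,3,2,1,3,4,5,3,8,9,3,2,1,3,4,5,3,8,9,3,2,1,3,4,5,3,8,9,3,2,1,3,4,5,3,8,9,3,2,1,3,4,5,3,8,9,3,2,1,3,4,5,3,8,9,3,2,1,3,4,5,3,8,9],
  [0,1,2,3,4,5,8,0,1,2,3,4,5,8,0,1,2,3,4,5,8,0,1,2,3,4,5,8,0,1,2,3,4,5,8,0,1,2,3,4,5,8,0,1,2,3,4,5,8,0,1,2,3,4,5,8,0,1,2,3,4,5,8]]
noncomputable def WA : List (List (List Nat)) := [[[7,0,7],[6,0,6],[5,0,5],[4,0,4],[3,0,3],[2,0,2],[8,0,8],[9,0,9],[0],[1,0,1,0,1]],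
 [[7,1,7],[6,1,6],[5,1,5],[4,1,4],[3,1,3],[8,1,8],[1],[9,1,9],[0,1,0,1,0],[2,1,2,1,2]],
 [[7,2,7],[6,2,6],[5,2,5],[4,2,4],[2],[1,2,1,2,1],[8,2,8],[0,2,0],[3,2,3,2,3],[9,2,9],[1,0,8,5,4,3,2,1,0,8,5,4,3,2,1,0,8,5,4,3,2,1,0,8,5,4,3,2,1,0,8,5,4,3,2,1,0,8,5,4,3,2,1,0,8,5,4,3,2,1,0,8,5,4,3,2,1,0,8,5,4,3]],
 [[7,3,7],[6,3,6],[5,3,5],[3],[2,3,2,3,2],[8,3,8,3,8],[1,3,1],[9,3,9],[0,3,0],[4,3,4,3,4]],
 [[7,4,7],[6,4,6],[4],[3,4,3,4,3],[2,4,2],[8,4,8],[1,4,1],[9,4,9],[0,4,0],[5,4,5,4,5],[3,1,2,3,9,8,3,5,4,3,1,2,3,9,8,3,5,4,3,1,2,3,9,8,3,5,4,3,1,2,3,9,8,3,5,4,3,1,2,3,9,8,3,5,4,3,1,2,3,9,8,3,5,4,3,1,2,3,9,8,3,5,4,3,1,2,3,9,8,3,5,4,3,1,2,3,9,8,3,5,4,3,1,2,3,9,8,3,5]],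
 [[7,5,7],[5],[4,5,4,5,4],[3,5,3],[2,5,2],[8,5,8],[1,5,1],[9,5,9],[0,5,0],[6,5,6,5,6]],
 [[6],[5,6,5,6,5],[4,6,4],[3,6,3],[2,6,2],[8,6,8],[1,6,1],[9,6,9],[0,6,0],[7,6,7,6,7]],
 [[7],[6,7,6,7,6],[5,7,5],[4,7,4],[3,7,3],[2,7,2],[8,7,8],[1,7,1],[9,7,9],[0,7,0]],
 [[7,8,7],[6,8,6],[5,8,5],[4,8,4],[8],[9,8,9,8,9],[3,8,3,8,3],[2,8,2],[1,8,1],[0,8,0],[5,4,3,2,1,0,8,5,4,3,2,1,0,8,5,4,3,2,1,0,8,5,4,3,2,1,0,8,5,4,3,2,1,0,8,5,4,3,2,1,0,8,5,4,3,2,1,0,8,5,4,3,2,1,0,8,5,4,3,2,1,0]],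
 [[7,9,7],[6,9,6],[5,9,5],[4,9,4],[3,9,3],[2,9,2],[1,9,1],[9],[0,9,0],[8,9,8,9,8]]]
noncomputable def HA : List (List (Nat × Bool × Nat)) := [[(16,false,1),(15,false,1),(14,false,1),(13,false,1),(12,false,1),(11,false,1),(17,false,1),(18,false,1),(0,false,0),(10,false,1)],
 [(24,false,1),(23,false,1),(22,false,1),(21,false,1),(20,false,1),(25,false,1),(1,false,0),(26,false,1),(10,false,0),(19,false,1)],
 [(31,false,1),(30,false,1),(29,false,1),(28,false,1),(2,false,0),(19,false,0),(32,false,1),(11,false,0),(27,false,1),(33,false,1),(56,false,4)],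
 [(37,false,1),(36,false,1),(35,false,1),(3,false,0),(27,false,0),(38,false,1),(20,false,0),(39,false,1),(12,false,0),(34,false,1)],
 [(42,false,1),(41,false,1),(4,false,0),(34,false,0),(28,false,0),(43,false,1),(21,false,0),(44,false,1),(13,false,0),(40,false,1),(55,false,4)],
 [(46,false,1),(5,false,0),(40,false,0),(35,false,0),(29,false,0),(47,false,1),(22,false,0),(48,false,1),(14,false,0),(45,false,1)],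
 [(6,false,0),(45,false,0),(41,false,0),(36,false,0),(30,false,0),(50,false,1),(23,false,0),(51,false,1),(15,false,0),(49,false,1)],
 [(7,false,0),(49,false,0),(46,false,0),(42,false,0),(37,false,0),(31,false,0),(52,false,1),(24,false,0),(53,false,1),(16,false,0)],
 [(52,false,0),(50,false,0),(47,false,0),(43,false,0),(8,false,0),(54,false,1),(38,false,0),(32,false,0),(25,false,0),(17,false,0),(56,false,0)],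
 [(53,false,0),(51,false,0),(48,false,0),(44,false,0),(39,false,0),(33,false,0),(26,false,0),(9,false,0),(18,false,0),(54,false,0)]]
noncomputable def W0 : List (List (Nat → Nat)) := [[F7,F0,F7],
 [F6,F0,F6],
 [F5,F0,F5],
 [F4,F0,F4],
 [F3,F0,F3],
 [F2,F0,F2],
 [F8,F0,F8],
 [F9,F0,F9],
 [F0],
 [F1,F0,F1,F0,F1]]
theorem hW0 : W0 = (WA.getD 0 []).map (List.map (enF enL)) := rfl
noncomputable def DL0 : List (Nat → Nat) := [F0]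
noncomputable def W1 : List (List (Nat → Nat)) := [[F7,F1,F7],
 [F6,F1,F6],
 [F5,F1,F5],
 [F4,F1,F4],
 [F3,F1,F3],
 [F8,F1,F8],
 [F1],
 [F9,F1,F9],
 [F0,F1,F0,F1,F0],
 [F2,F1,F2,F1,F2]]
theorem hW1 : W1 = (WA.getD 1 []).map (List.map (enF enL)) := rfl
noncomputable def DL1 : List (Nat → Nat) := [F1]
noncomputable def W2 : List (List (Nat → Nat)) := [[F7,F2,F7],
 [F6,F2,F6],
 [F5,F2,F5],
 [F4,F2,F4],
 [F2],
 [F1,F2,F1,F2,F1],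
 [F8,F2,F8],
 [F0,F2,F0],
 [F3,F2,F3,F2,F3],
 [F9,F2,F9],
 [F1,F0,F8,F5,F4,F3,F2,F1,F0,F8,F5,F4,F3,F2,F1,F0,F8,F5,F4,F3,F2,F1,F0,F8,F5,F4,F3,F2,F1,F0,F8,F5,F4,F3,F2,F1,F0,F8,F5,F4,F3,F2,F1,F0,F8,F5,F4,F3,F2,F1,F0,F8,F5,F4,F3,F2,F1,F0,F8,F5,F4,F3]]
theorem hW2 : W2 = (WA.getD 2 []).map (List.map (enF enL)) := rfl
noncomputable def DL2 : List (Nat → Nat) := [F2]
noncomputable def W3 : List (List (Nat → Nat)) := [[F7,F3,F7],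
 [F6,F3,F6],
 [F5,F3,F5],
 [F3],
 [F2,F3,F2,F3,F2],
 [F8,F3,F8,F3,F8],
 [F1,F3,F1],
 [F9,F3,F9],
 [F0,F3,F0],
 [F4,F3,F4,F3,F4]]
theorem hW3 : W3 = (WA.getD 3 []).map (List.map (enF enL)) := rfl
noncomputable def DL3 : List (Nat → Nat) := [F3]
noncomputable def W4 : List (List (Nat → Nat)) := [[F7,F4,F7],
 [F6,F4,F6],
 [F4],
 [F3,F4,F3,F4,F3],
 [F2,F4,F2],
 [F8,F4,F8],
 [F1,F4,F1],
 [F9,F4,F9],
 [F0,F4,F0],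
 [F5,F4,F5,F4,F5],
 [F3,F1,F2,F3,F9,F8,F3,F5,F4,F3,F1,F2,F3,F9,F8,F3,F5,F4,F3,F1,F2,F3,F9,F8,F3,F5,F4,F3,F1,F2,F3,F9,F8,F3,F5,F4,F3,F1,F2,F3,F9,F8,F3,F5,F4,F3,F1,F2,F3,F9,F8,F3,F5,F4,F3,F1,F2,F3,F9,F8,F3,F5,F4,F3,F1,F2,F3,F9,F8,F3,F5,F4,F3,F1,F2,F3,F9,F8,F3,F5,F4,F3,F1,F2,F3,F9,F8,F3,F5]]
theorem hW4 : W4 = (WA.getD 4 []).map (List.map (enF enL)) := rfl
noncomputable def DL4 : List (Nat → Nat) := [F4]
noncomputable def W5 : List (List (Nat → Nat)) := [[F7,F5,F7],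
 [F5],
 [F4,F5,F4,F5,F4],
 [F3,F5,F3],
 [F2,F5,F2],
 [F8,F5,F8],
 [F1,F5,F1],
 [F9,F5,F9],
 [F0,F5,F0],
 [F6,F5,F6,F5,F6]]
theorem hW5 : W5 = (WA.getD 5 []).map (List.map (enF enL)) := rfl
noncomputable def DL5 : List (Nat → Nat) := [F5]
noncomputable def W6 : List (List (Nat → Nat)) := [[F6],
 [F5,F6,F5,F6,F5],
 [F4,F6,F4],
 [F3,F6,F3],
 [F2,F6,F2],
 [F8,F6,F8],
 [F1,F6,F1],
 [F9,F6,F9],
 [F0,F6,F0],
 [F7,F6,F7,F6,F7]]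
theorem hW6 : W6 = (WA.getD 6 []).map (List.map (enF enL)) := rfl
noncomputable def DL6 : List (Nat → Nat) := [F6]
noncomputable def W7 : List (List (Nat → Nat)) := [[F7],
 [F6,F7,F6,F7,F6],
 [F5,F7,F5],
 [F4,F7,F4],
 [F3,F7,F3],
 [F2,F7,F2],
 [F8,F7,F8],
 [F1,F7,F1],
 [F9,F7,F9],
 [F0,F7,F0]]
theorem hW7 : W7 = (WA.getD 7 []).map (List.map (enF enL)) := rfl
noncomputable def DL7 : List (Nat → Nat) := [F7]
noncomputable def W8 : List (List (Nat → Nat)) := [[F7,F8,F7],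
 [F6,F8,F6],
 [F5,F8,F5],
 [F4,F8,F4],
 [F8],
 [F9,F8,F9,F8,F9],
 [F3,F8,F3,F8,F3],
 [F2,F8,F2],
 [F1,F8,F1],
 [F0,F8,F0],
 [F5,F4,F3,F2,F1,F0,F8,F5,F4,F3,F2,F1,F0,F8,F5,F4,F3,F2,F1,F0,F8,F5,F4,F3,F2,F1,F0,F8,F5,F4,F3,F2,F1,F0,F8,F5,F4,F3,F2,F1,F0,F8,F5,F4,F3,F2,F1,F0,F8,F5,F4,F3,F2,F1,F0,F8,F5,F4,F3,F2,F1,F0]]
theorem hW8 : W8 = (WA.getD 8 []).map (List.map (enF enL)) := rfl
noncomputable def DL8 : List (Nat → Nat) := [F8]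
noncomputable def W9 : List (List (Nat → Nat)) := [[F7,F9,F7],
 [F6,F9,F6],
 [F5,F9,F5],
 [F4,F9,F4],
 [F3,F9,F3],
 [F2,F9,F2],
 [F1,F9,F1],
 [F9],
 [F0,F9,F0],
 [F8,F9,F8,F9,F8]]
theorem hW9 : W9 = (WA.getD 9 []).map (List.map (enF enL)) := rfl
noncomputable def DL9 : List (Nat → Nat) := [F9]
noncomputable def WE : List (List Nat) := [[3,4,3,4,3,4],
 [9,9],
 [2,4,2,4],
 [3,3],
 [4,1,4,1],
 [5,5],
 [1,1],
 [2,2],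
 [4,2,4,2],
 [5,1,5,1],
 [1,3,4,5,3,8,9,3,2,1,3,4,5,3,8,9,3,2,1,3,4,5,3,8,9,3,2,1,3,4,5,3,8,9,3,2,1,3,4,5,3,8,9,3,2,1,3,4,5,3,8,9,3,2,1,3,4,5,3,8,9,3,2,1,3,4,5,3,8,9,3,2,1,3,4,5,3,8,9,3,2,1,3,4,5,3,8,9,3,2],
 [0,0],
 [6,6],
 [4,4],
 [1,9,1,9],
 [8,8],
 [1,0,1,0,1,0],
 [8,1,8,1],
 [6,1,6,1],
 [2,0,2,0],
 [6,0,6,0],
 [5,2,5,2],
 [2,9,2,9],
 [6,9,6,9],
 [8,2,8,2],
 [1,2,1,2,1,2],
 [3,0,3,0],
 [8,4,8,4],
 [6,3,6,3],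
 [0,2,0,2],
 [6,2,6,2],
 [0,1,0,1,0,1],
 [8,0,8,0],
 [2,8,2,8],
 [2,3,2,3,2,3],
 [0,8,0,8],
 [3,2,3,2,3,2],
 [0,5,0,5],
 [3,6,3,6],
 [0,3,0,3],
 [4,0,4,0],
 [3,8,3,8,3,8],
 [5,3,5,3],
 [7,3,7,3],
 [0,6,0,6],
 [3,5,3,5],
 [6,8,6,8],
 [6,4,6,4],
 [5,0,5,0],
 [1,8,1,8],
 [7,4,7,4],
 [4,8,4,8],
 [7,8,7,8],
 [5,8,5,8],
 [0,7,0,7],
 [8,9,8,9,8,9],
 [7,2,7,2],
 [0,9,0,9],
 [5,9,5,9],
 [2,6,2,6],
 [8,3,8,3,8,3],
 [7,9,7,9],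
 [2,5,2,5],
 [1,3,1,3],
 [1,7,1,7],
 [3,9,3,9],
 [4,9,4,9],
 [2,1,0,8,5,4,3,2,1,0,8,5,4,3,2,1,0,8,5,4,3,2,1,0,8,5,4,3,2,1,0,8,5,4,3,2,1,0,8,5,4,3,2,1,0,8,5,4,3,2,1,0,8,5,4,3,2,1,0,8,5,4,3],
 [9,1,9,1],
 [1,6,1,6],
 [7,0,7,0],
 [1,4,1,4],
 [2,1,2,1,2,1],
 [9,3,9,3],
 [9,0,9,0],
 [3,1,3,1],
 [0,4,0,4],
 [7,7],
 [4,3,4,3,4,3],
 [2,7,2,7],
 [5,6,5,6,5,6],
 [1,5,1,5],
 [7,1,7,1],
 [8,6,8,6],
 [9,2,9,2],
 [8,5,8,5],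
 [9,4,9,4],
 [3,7,3,7],
 [8,7,8,7],
 [4,5,4,5,4,5],
 [7,5,7,5],
 [9,8,9,8,9,8],
 [3,8,9,3,2,1,3,4,5,3,8,9,3,2,1,3,4,5,3,8,9,3,2,1,3,4,5,3,8,9,3,2,1,3,4,5,3,8,9,3,2,1,3,4,5,3,8,9,3,2,1,3,4,5,3,8,9,3,2,1,3,4,5,3,8,9,3,2,1,3,4,5,3,8,9,3,2,1,3,4,5,3,8,9,3,2,1,3,4,5],
 [9,5,9,5],
 [4,6,4,6],
 [5,4,5,4,5,4],
 [9,6,9,6],
 [6,7,6,7,6,7],
 [4,7,4,7],
 [9,7,9,7],
 [5,7,5,7],
 [7,6,7,6,7,6]]
noncomputable def HE : List (Nat × Bool × Nat) := [(34,false,1),(9,false,0),(28,false,1),(3,false,0),(21,false,0),(5,false,0),(1,false,0),(2,false,0),(28,false,0),(22,false,0),(55,true,2),(0,false,0),(6,false,0),(4,false,0),(26,false,1),(8,false,0),(10,false,0),(25,false,0),(23,false,0),(11,false,0),(15,false,0),(29,false,0),(33,false,1),(51,false,1),(32,false,0),(19,false,1),(12,false,0),(43,false,0),(36,false,0),(11,false,1),(30,fa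lse,0),(10,false,1),(17,false,0),(32,false,1),(27,false,1),(17,false,1),(27,false,0),(14,false,1),(36,false,1),(12,false,1),(13,false,0),(38,false,1),(35,false,0),(37,false,0),(15,false,1),(35,false,1),(50,false,1),(41,false,0),(14,false,0),(25,false,1),(42,false,0),(43,false,1),(52,false,1),(47,false,1),(16,false,1),(54,false,1),(31,false,0),(18,false,1),(48,false,1),(30,false,1),(38,false,0),(53,false,1),(29,false,1),(20,false,1),(24,false,1),(39,false,1),(44,false,1),(56,false,4),(26,false,0),(23,false,1),(16,false,0),(21,false,1),(19,false,0),(39,false,0),(18,false,0),(20,false,0),(13,false,1),(7,false,0),(34,false,0),(31,false,1),(45,false,1),(22,false,1),(24,false,0),(50,false,0),(33,false,0),(47,false,0),(44,false,0),(37,false,1),(52,false,0),(40,false,1),(46,false,0),(54,false,0),(55,true,6),(48,false,0),(41,false,1),(40,false,0),(51,false,0),(49,false,1),(42,false,1),(53,false,0),(46,false,1),(49,false,0)]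
noncomputable def WEL : List (List (Nat → Nat)) := [[F3,F4,F3,F4,F3,F4],
 [F9,F9],
 [F2,F4,F2,F4],
 [F3,F3],
 [F4,F1,F4,F1],
 [F5,F5],
 [F1,F1],
 [F2,F2],
 [F4,F2,F4,F2],
 [F5,F1,F5,F1],
 [F1,F3,F4,F5,F3,F8,F9,F3,F2,F1,F3,F4,F5,F3,F8,F9,F3,F2,F1,F3,F4,F5,F3,F8,F9,F3,F2,F1,F3,F4,F5,F3,F8,F9,F3,F2,F1,F3,F4,F5,F3,F8,F9,F3,F2,F1,F3,F4,F5,F3,F8,F9,F3,F2,F1,F3,F4,F5,F3,F8,F9,F3,F2,F1,F3,F4,F5,F3,F8,F9,F3,F2,F1,F3,F4,F5,F3,F8,F9,F3,F2,F1,F3,F4,F5,F3,F8,F9,F3,F2],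
 [F0,F0],
 [F6,F6],
 [F4,F4],
 [F1,F9,F1,F9],
 [F8,F8],
 [F1,F0,F1,F0,F1,F0],
 [F8,F1,F8,F1],
 [F6,F1,F6,F1],
 [F2,F0,F2,F0],
 [F6,F0,F6,F0],
 [F5,F2,F5,F2],
 [F2,F9,F2,F9],
 [F6,F9,F6,F9],
 [F8,F2,F8,F2],
 [F1,F2,F1,F2,F1,F2],
 [F3,F0,F3,F0],
 [F8,F4,F8,F4],
 [F6,F3,F6,F3],
 [F0,F2,F0,F2],
 [F6,F2,F6,F2],
 [F0,F1,F0,F1,F0,F1],
 [F8,F0,F8,F0],
 [F2,F8,F2,F8],
 [F2,F3,F2,F3,F2,F3],
 [F0,F8,F0,F8],
 [F3,F2,F3,F2,F3,F2],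
 [F0,F5,F0,F5],
 [F3,F6,F3,F6],
 [F0,F3,F0,F3],
 [F4,F0,F4,F0],
 [F3,F8,F3,F8,F3,F8],
 [F5,F3,F5,F3],
 [F7,F3,F7,F3],
 [F0,F6,F0,F6],
 [F3,F5,F3,F5],
 [F6,F8,F6,F8],
 [F6,F4,F6,F4],
 [F5,F0,F5,F0],
 [F1,F8,F1,F8],
 [F7,F4,F7,F4],
 [F4,F8,F4,F8],
 [F7,F8,F7,F8],
 [F5,F8,F5,F8],
 [F0,F7,F0,F7],
 [F8,F9,F8,F9,F8,F9],
 [F7,F2,F7,F2],
 [F0,F9,F0,F9],
 [F5,F9,F5,F9],
 [F2,F6,F2,F6],
 [F8,F3,F8,F3,F8,F3],
 [F7,F9,F7,F9],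
 [F2,F5,F2,F5],
 [F1,F3,F1,F3],
 [F1,F7,F1,F7],
 [F3,F9,F3,F9],
 [F4,F9,F4,F9],
 [F2,F1,F0,F8,F5,F4,F3,F2,F1,F0,F8,F5,F4,F3,F2,F1,F0,F8,F5,F4,F3,F2,F1,F0,F8,F5,F4,F3,F2,F1,F0,F8,F5,F4,F3,F2,F1,F0,F8,F5,F4,F3,F2,F1,F0,F8,F5,F4,F3,F2,F1,F0,F8,F5,F4,F3,F2,F1,F0,F8,F5,F4,F3],
 [F9,F1,F9,F1],
 [F1,F6,F1,F6],
 [F7,F0,F7,F0],
 [F1,F4,F1,F4],
 [F2,F1,F2,F1,F2,F1],
 [F9,F3,F9,F3],
 [F9,F0,F9,F0],
 [F3,F1,F3,F1],
 [F0,F4,F0,F4],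
 [F7,F7],
 [F4,F3,F4,F3,F4,F3],
 [F2,F7,F2,F7],
 [F5,F6,F5,F6,F5,F6],
 [F1,F5,F1,F5],
 [F7,F1,F7,F1],
 [F8,F6,F8,F6],
 [F9,F2,F9,F2],
 [F8,F5,F8,F5],
 [F9,F4,F9,F4],
 [F3,F7,F3,F7],
 [F8,F7,F8,F7],
 [F4,F5,F4,F5,F4,F5],
 [F7,F5,F7,F5],
 [F9,F8,F9,F8,F9,F8],
 [F3,F8,F9,F3,F2,F1,F3,F4,F5,F3,F8,F9,F3,F2,F1,F3,F4,F5,F3,F8,F9,F3,F2,F1,F3,F4,F5,F3,F8,F9,F3,F2,F1,F3,F4,F5,F3,F8,F9,F3,F2,F1,F3,F4,F5,F3,F8,F9,F3,F2,F1,F3,F4,F5,F3,F8,F9,F3,F2,F1,F3,F4,F5,F3,F8,F9,F3,F2,F1,F3,F4,F5,F3,F8,F9,F3,F2,F1,F3,F4,F5,F3,F8,F9,F3,F2,F1,F3,F4,F5],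
 [F9,F5,F9,F5],
 [F4,F6,F4,F6],
 [F5,F4,F5,F4,F5,F4],
 [F9,F6,F9,F6],
 [F6,F7,F6,F7,F6,F7],
 [F4,F7,F4,F7],
 [F9,F7,F9,F7],
 [F5,F7,F5,F7],
 [F7,F6,F7,F6,F7,F6]]
theorem hWEL : WEL = WE.map (List.map (enF enL)) := rfl
noncomputable def subs : List (List Nat × Nat × List Nat) := [([],0,[]),([],1,[]),([],2,[]),([],3,[]),([],4,[]),([],5,[]),([],6,[]),([],8,[]),([],9,[])]
noncomputable def subE : List (List Nat × List Nat) := []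

end H34.Fi23a
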