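import Cfsg.Agent.Lib.H34.Fi23a.PData

set_option autoImplicit false
set_option maxRecDepth 100000
set_option Elab.async false

noncomputable section

namespace H34.Fi23a

open H34.T2

theorem v0 : loop2 (fun i => Nat.beq (Z i) 0) 2 16 0 = true := by decide +kernel
theorem v1 : loop2 (fun i => Nat.beq (Z i) 0) 2 16 32 = true := by decide +kernel
theorem v2 : loop2 (fun i => Nat.beq (Z i) 0) 2 16 64 = true := by decide +kernel
theorem v3 : loop2 (fun i => Nat.beq (Z i) 0) 2 16 96 = true := by decide +kernel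
theorem v4 : loop2 (fun i => Nat.beq (Z i) 0) 2 16 128 = true := by decide +kernel
theorem v5 : loop2 (fun i => Nat.beq (Z i) 0) 2 16 160 = true := by decide +kernel
theorem v6 : loop2 (fun i => Nat.beq (Z i) 0) 2 16 192 = true := by decide +kernel
theorem v7 : loop2 (fun i => Nat.beq (Z i) 0) 2 16 224 = true := by decide +kernel
theorem v8 : loop2 (fun i => Nat.beq (Z i) 0) 2 16 256 = true := by decide +kernel
theorem v9 : loop2 (fun i => Nat.beq (Z i) 0) 2 16 288 = true := by decide +kernel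
theorem v10 : loop2 (fun i => Nat.beq (Z i) 0) 2 16 320 = true := by decide +kernel
theorem v11 : loop2 (fun i => Nat.beq (Z i) 0) 2 16 352 = true := by decide +kernel
theorem v12 : loop2 (fun i => Nat.beq (Z i) 0) 2 16 384 = true := by decide +kernel
theorem v13 : loop2 (fun i => Nat.beq (Z i) 0) 2 16 416 = true := by decide +kernel
theorem v14 : loop2 (fun i => Nat.beq (Z i) 0) 2 16 448 = true := by decide +kernel
theorem v15 : loop2 (fun i => Nat.beq (Z i) 0) 2 16 480 = true := by decide +kernel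
theorem v16 : loop2 (fun i => Nat.beq (Z i) 0) 2 16 512 = true := by decide +kernel
theorem v17 : loop2 (fun i => Nat.beq (Z i) 0) 2 16 544 = true := by decide +kernel
theorem v18 : loop2 (fun i => Nat.beq (Z i) 0) 2 16 576 = true := by decide +kernel
theorem v19 : loop2 (fun i => Nat.beq (Z i) 0) 2 16 608 = true := by decide +kernel
theorem v20 : loop2 (fun i => Nat.beq (Z i) 0) 2 16 640 = true := by decide +kernel
theorem v21 : loop2 (fun i => Nat.beq (Z i) 0) 2 16 672 = true := by decide +kernel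
theorem v22 : loop2 (fun i => Nat.beq (Z i) 0) 2 16 704 = true := by decide +kernel
theorem v23 : loop2 (fun i => Nat.beq (Z i) 0) 2 16 736 = true := by decide +kernel
theorem v24 : loop2 (fun i => Nat.beq (Z i) 0) 2 16 768 = true := by decide +kernel
theorem v25 : loop2 (fun i => Nat.beq (Z i) 0) 2 16 800 = true := by decide +kernel
theorem v26 : loop2 (fun i => Nat.beq (Z i) 0) 2 16 832 = true := by decide +kernel
theorem v27 : loop2 (fun i => Nat.beq (Z i) 0) 2 16 864 = true := by decide +kernel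
theorem v28 : loop2 (fun i => Nat.beq (Z i) 0) 2 16 896 = true := by decide +kernel
theorem v29 : loop2 (fun i => Nat.beq (Z i) 0) 2 16 928 = true := by decide +kernel
theorem v30 : loop2 (fun i => Nat.beq (Z i) 0) 2 16 960 = true := by decide +kernel
theorem v31 : loop2 (fun i => Nat.beq (Z i) 0) 2 16 992 = true := by decide +kernel
theorem v32 : loop2 (fun i => Nat.beq (Z i) 0) 2 16 1024 = true := by decide +kernel
theorem v33 : loop2 (fun i => Nat.beq (Z i) 0) 2 16 1056 = true := by decide +kernel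
theorem v34 : loop2 (fun i => Nat.beq (Z i) 0) 2 16 1088 = true := by decide +kernel
theorem v35 : loop2 (fun i => Nat.beq (Z i) 0) 2 16 1120 = true := by decide +kernel
theorem v36 : loop2 (fun i => Nat.beq (Z i) 0) 2 16 1152 = true := by decide +kernel
theorem v37 : loop2 (fun i => Nat.beq (Z i) 0) 2 16 1184 = true := by decide +kernel
theorem v38 : loop2 (fun i => Nat.beq (Z i) 0) 2 16 1216 = true := by decide +kernel
theorem v39 : loop2 (fun i => Nat.beq (Z i) 0) 2 16 1248 = true := by decide +kernel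
theorem v40 : loop2 (fun i => Nat.beq (Z i) 0) 2 16 1280 = true := by decide +kernel
theorem v41 : loop2 (fun i => Nat.beq (Z i) 0) 2 16 1312 = true := by decide +kernel
theorem v42 : loop2 (fun i => Nat.beq (Z i) 0) 2 16 1344 = true := by decide +kernel
theorem v43 : loop2 (fun i => Nat.beq (Z i) 0) 2 16 1376 = true := by decide +kernel
theorem v44 : loop2 (fun i => Nat.beq (Z i) 0) 2 16 1408 = true := by decide +kernel
theorem v45 : loop2 (fun i => Nat.beq (Z i) 0) 2 16 1440 = true := by decide +kernel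
theorem v46 : loop2 (fun i => Nat.beq (Z i) 0) 2 16 1472 = true := by decide +kernel
theorem v47 : loop2 (fun i => Nat.beq (Z i) 0) 2 16 1504 = true := by decide +kernel
theorem v48 : loop2 (fun i => Nat.beq (Z i) 0) 2 16 1536 = true := by decide +kernel
theorem v49 : loop2 (fun i => Nat.beq (Z i) 0) 2 16 1568 = true := by decide +kernel
theorem v50 : loop2 (fun i => Nat.beq (Z i) 0) 2 16 1600 = true := by decide +kernel
theorem v51 : loop2 (fun i => Nat.beq (Z i) 0) 2 16 1632 = true := by decide +kernel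
theorem v52 : loop2 (fun i => Nat.beq (Z i) 0) 2 16 1664 = true := by decide +kernel
theorem v53 : loop2 (fun i => Nat.beq (Z i) 0) 2 16 1696 = true := by decide +kernel
theorem v54 : loop2 (fun i => Nat.beq (Z i) 0) 2 16 1728 = true := by decide +kernel
theorem v55 : loop2 (fun i => Nat.beq (Z i) 0) 2 16 1760 = true := by decide +kernel
theorem v56 : loop2 (fun i => Nat.beq (Z i) 0) 2 16 1792 = true := by decide +kernel
theorem v57 : loop2 (fun i => Nat.beq (Z i) 0) 2 16 1824 = true := by decide +kernel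
theorem v58 : loop2 (fun i => Nat.beq (Z i) 0) 2 16 1856 = true := by decide +kernel
theorem v59 : loop2 (fun i => Nat.beq (Z i) 0) 2 16 1888 = true := by decide +kernel
theorem v60 : loop2 (fun i => Nat.beq (Z i) 0) 2 16 1920 = true := by decide +kernel
theorem v61 : loop2 (fun i => Nat.beq (Z i) 0) 2 16 1952 = true := by decide +kernel
theorem v62 : loop2 (fun i => Nat.beq (Z i) 0) 2 16 1984 = true := by decide +kernel
theorem v63 : loop2 (fun i => Nat.beq (Z i) 0) 2 16 2016 = true := by decide +kernel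
theorem v64 : loop2 (fun i => Nat.beq (Z i) 0) 2 16 2048 = true := by decide +kernel
theorem v65 : loop2 (fun i => Nat.beq (Z i) 0) 2 16 2080 = true := by decide +kernel
theorem v66 : loop2 (fun i => Nat.beq (Z i) 0) 2 16 2112 = true := by decide +kernel
theorem v67 : loop2 (fun i => Nat.beq (Z i) 0) 2 16 2144 = true := by decide +kernel
theorem v68 : loop2 (fun i => Nat.beq (Z i) 0) 2 16 2176 = true := by decide +kernel
theorem v69 : loop2 (fun i => Nat.beq (Z i) 0) 2 16 2208 = true := by decide +kernel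
theorem v70 : loop2 (fun i => Nat.beq (Z i) 0) 2 16 2240 = true := by decide +kernel
theorem v71 : loop2 (fun i => Nat.beq (Z i) 0) 2 16 2272 = true := by decide +kernel
theorem v72 : loop2 (fun i => Nat.beq (Z i) 0) 2 16 2304 = true := by decide +kernel
theorem v73 : loop2 (fun i => Nat.beq (Z i) 0) 2 16 2336 = true := by decide +kernel
theorem v74 : loop2 (fun i => Nat.beq (Z i) 0) 2 16 2368 = true := by decide +kernel
theorem v75 : loop2 (fun i => Nat.beq (Z i) 0) 2 16 2400 = true := by decide +kernel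
theorem v76 : loop2 (fun i => Nat.beq (Z i) 0) 2 16 2432 = true := by decide +kernel
theorem v77 : loop2 (fun i => Nat.beq (Z i) 0) 2 16 2464 = true := by decide +kernel
theorem v78 : loop2 (fun i => Nat.beq (Z i) 0) 2 16 2496 = true := by decide +kernel
theorem v79 : loop2 (fun i => Nat.beq (Z i) 0) 2 16 2528 = true := by decide +kernel
theorem v80 : loop2 (fun i => Nat.beq (Z i) 0) 2 16 2560 = true := by decide +kernel
theorem v81 : loop2 (fun i => Nat.beq (Z i) 0) 2 16 2592 = true := by decide +kernel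
theorem v82 : loop2 (fun i => Nat.beq (Z i) 0) 2 16 2624 = true := by decide +kernel
theorem v83 : loop2 (fun i => Nat.beq (Z i) 0) 2 16 2656 = true := by decide +kernel
theorem v84 : loop2 (fun i => Nat.beq (Z i) 0) 2 16 2688 = true := by decide +kernel
theorem v85 : loop2 (fun i => Nat.beq (Z i) 0) 2 16 2720 = true := by decide +kernel
theorem v86 : loop2 (fun i => Nat.beq (Z i) 0) 2 16 2752 = true := by decide +kernel
theorem v87 : loop2 (fun i => Nat.beq (Z i) 0) 2 16 2784 = true := by decide +kernel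
theorem v88 : loop2 (fun i => Nat.beq (Z i) 0) 2 16 2816 = true := by decide +kernel
theorem v89 : loop2 (fun i => Nat.beq (Z i) 0) 2 16 2848 = true := by decide +kernel
theorem v90 : loop2 (fun i => Nat.beq (Z i) 0) 2 16 2880 = true := by decide +kernel
theorem v91 : loop2 (fun i => Nat.beq (Z i) 0) 2 16 2912 = true := by decide +kernel
theorem v92 : loop2 (fun i => Nat.beq (Z i) 0) 2 16 2944 = true := by decide +kernel
theorem v93 : loop2 (fun i => Nat.beq (Z i) 0) 2 16 2976 = true := by decide +kernel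
theorem v94 : loop2 (fun i => Nat.beq (Z i) 0) 2 16 3008 = true := by decide +kernel
theorem v95 : loop2 (fun i => Nat.beq (Z i) 0) 2 16 3040 = true := by decide +kernel
theorem v96 : loop2 (fun i => Nat.beq (Z i) 0) 2 16 3072 = true := by decide +kernel
theorem v97 : loop2 (fun i => Nat.beq (Z i) 0) 2 16 3104 = true := by decide +kernel
theorem v98 : loop2 (fun i => Nat.beq (Z i) 0) 2 16 3136 = true := by decide +kernel
theorem v99 : loop2 (fun i => Nat.beq (Z i) 0) 2 16 3168 = true := by decide +kernel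
theorem v100 : loop2 (fun i => Nat.beq (Z i) 0) 2 16 3200 = true := by decide +kernel
theorem v101 : loop2 (fun i => Nat.beq (Z i) 0) 2 16 3232 = true := by decide +kernel
theorem v102 : loop2 (fun i => Nat.beq (Z i) 0) 2 16 3264 = true := by decide +kernel
theorem v103 : loop2 (fun i => Nat.beq (Z i) 0) 2 16 3296 = true := by decide +kernel
theorem v104 : loop2 (fun i => Nat.beq (Z i) 0) 2 16 3328 = true := by decide +kernel
theorem v105 : loop2 (fun i => Nat.beq (Z i) 0) 2 16 3360 = true := by decide +kernel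
theorem v106 : loop2 (fun i => Nat.beq (Z i) 0) 2 16 3392 = true := by decide +kernel
theorem v107 : loop2 (fun i => Nat.beq (Z i) 0) 2 16 3424 = true := by decide +kernel
theorem v108 : loop2 (fun i => Nat.beq (Z i) 0) 2 16 3456 = true := by decide +kernel
theorem v109 : loop2 (fun i => Nat.beq (Z i) 0) 2 16 3488 = true := by decide +kernel
theorem v110 : loop2 (fun i => Nat.beq (Z i) 0) 2 16 3520 = true := by decide +kernel
theorem v111 : loop2 (fun i => Nat.beq (Z i) 0) 2 16 3552 = true := by decide +kernel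
theorem v112 : loop2 (fun i => Nat.beq (Z i) 0) 2 16 3584 = true := by decide +kernel
theorem v113 : loop2 (fun i => Nat.beq (Z i) 0) 2 16 3616 = true := by decide +kernel
theorem v114 : loop2 (fun i => Nat.beq (Z i) 0) 2 16 3648 = true := by decide +kernel
theorem v115 : loop2 (fun i => Nat.beq (Z i) 0) 2 16 3680 = true := by decide +kernel
theorem v116 : loop2 (fun i => Nat.beq (Z i) 0) 2 16 3712 = true := by decide +kernel
theorem v117 : loop2 (fun i => Nat.beq (Z i) 0) 2 16 3744 = true := by decide +kernel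
theorem v118 : loop2 (fun i => Nat.beq (Z i) 0) 2 16 3776 = true := by decide +kernel
theorem v119 : loop2 (fun i => Nat.beq (Z i) 0) 2 16 3808 = true := by decide +kernel
theorem v120 : loop2 (fun i => Nat.beq (Z i) 0) 2 16 3840 = true := by decide +kernel
theorem v121 : loop2 (fun i => Nat.beq (Z i) 0) 2 16 3872 = true := by decide +kernel
theorem v122 : loop2 (fun i => Nat.beq (Z i) 0) 2 16 3904 = true := by decide +kernel
theorem z0 : RngF (fun _ z => z = 0) Z 0 3936 := (RngF.app (RngF.app (RngF.app (RngF.app (RngF.app (RngF.app (rngZ_of_loop 32 v0 rfl) (RngF.app (rngZ_of_loop 64 v1 rfl) (rngZ_of_loop 96 v2 rfl))) (RngF.app (RngF.app (rngZ_of_loop 128 v3 rfl) (rngZ_of_loop 160 v4 rfl)) (RngF.app (rngZ_of_loop 192 v5 rfl) (rngZ_of_loop 224 v6 rfl)))) (RngF.app (RngF.app (RngF.app (rngZ_of_loop 256 v7 rfl) (rngZ_of_loop 288 v8 rfl)) (RngF.app (rngZ_of_loop 320 v9 rfl) (rngZ_of_loop 352 v10 rfl))) (RngF.app (RngF.app (rngZ_of_loop 384 v11 rfl) (rngZ_of_loop 416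 v12 rfl)) (RngF.app (rngZ_of_loop 448 v13 rfl) (rngZ_of_loop 480 v14 rfl))))) (RngF.app (RngF.app (RngF.app (rngZ_of_loop 512 v15 rfl) (RngF.app (rngZ_of_loop 544 v16 rfl) (rngZ_of_loop 576 v17 rfl))) (RngF.app (RngF.app (rngZ_of_loop 608 v18 rfl) (rngZ_of_loop 640 v19 rfl)) (RngF.app (rngZ_of_loop 672 v20 rfl) (rngZ_of_loop 704 v21 rfl)))) (RngF.app (RngF.app (RngF.app (rngZ_of_loop 736 v22 rfl) (rngZ_of_loop 768 v23 rfl)) (RngF.app (rngZ_of_loop 800 v24 rfl) (rngZ_of_loop 832 v25 rfl))) (RngF.app (RngF.app (rngZ_of_loop 864 v26 rfl) (rngZ_of_loop 896 v27 rfl)) (RngF.app (rngZ_of_loop 928 v28 rfl) (rngZ_of_loop 960 v29 rfl)))))) (RngF.app (RngF.app (RngF.app (RngF.app (rngZ_of_loop 992 v30 rfl) (RngF.app (rngZ_of_loop 1024 v31 rfl) (rngZ_of_loop 1056 v32 rfl))) (RngF.app (RngF.app (rngZ_of_loop 1088 v33 rfl) (rngZ_of_loop 1120 v34 rfl)) (RngF.app (rngZ_of_loop 1152 v35 rfl) (rngZ_of_loop 1184 v36 rfl)))) (RngF.app (RngF.app (RngF.app (rngZ_of_loop 1216 v37 rfl)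 (rngZ_of_loop 1248 v38 rfl)) (RngF.app (rngZ_of_loop 1280 v39 rfl) (rngZ_of_loop 1312 v40 rfl))) (RngF.app (RngF.app (rngZ_of_loop 1344 v41 rfl) (rngZ_of_loop 1376 v42 rfl)) (RngF.app (rngZ_of_loop 1408 v43 rfl) (rngZ_of_loop 1440 v44 rfl))))) (RngF.app (RngF.app (RngF.app (RngF.app (rngZ_of_loop 1472 v45 rfl) (rngZ_of_loop 1504 v46 rfl)) (RngF.app (rngZ_of_loop 1536 v47 rfl) (rngZ_of_loop 1568 v48 rfl))) (RngF.app (RngF.app (rngZ_of_loop 1600 v49 rfl) (rngZ_of_loop 1632 v50 rfl)) (RngF.app (rngZ_of_loop 1664 v51 rfl) (rngZ_of_loop 1696 v52 rfl)))) (RngF.app (RngF.app (RngF.app (rngZ_of_loop 1728 v53 rfl) (rngZ_of_loop 1760 v54 rfl)) (RngF.app (rngZ_of_loop 1792 v55 rfl) (rngZ_of_loop 1824 v56 rfl))) (RngF.app (RngF.app (rngZ_of_loop 1856 v57 rfl) (rngZ_of_loop 1888 v58 rfl)) (RngF.app (rngZ_of_loop 1920 v59 rfl) (rngZ_of_loop 1952 v60 rfl))))))) (RngF.app (RngF.app (RngF.app (RngF.app (RngF.app (rngZ_of_loop 1984 v61 rfl) (RngF.app (rngZ_of_loop 2016 v62 rfl) (rngZ_of_loop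 2048 v63 rfl))) (RngF.app (RngF.app (rngZ_of_loop 2080 v64 rfl) (rngZ_of_loop 2112 v65 rfl)) (RngF.app (rngZ_of_loop 2144 v66 rfl) (rngZ_of_loop 2176 v67 rfl)))) (RngF.app (RngF.app (RngF.app (rngZ_of_loop 2208 v68 rfl) (rngZ_of_loop 2240 v69 rfl)) (RngF.app (rngZ_of_loop 2272 v70 rfl) (rngZ_of_loop 2304 v71 rfl))) (RngF.app (RngF.app (rngZ_of_loop 2336 v72 rfl) (rngZ_of_loop 2368 v73 rfl)) (RngF.app (rngZ_of_loop 2400 v74 rfl) (rngZ_of_loop 2432 v75 rfl))))) (RngF.app (RngF.app (RngF.app (RngF.app (rngZ_of_loop 2464 v76 rfl) (rngZ_of_loop 2496 v77 rfl)) (RngF.app (rngZ_of_loop 2528 v78 rfl) (rngZ_of_loop 2560 v79 rfl))) (RngF.app (RngF.app (rngZ_of_loop 2592 v80 rfl) (rngZ_of_loop 2624 v81 rfl)) (RngF.app (rngZ_of_loop 2656 v82 rfl) (rngZ_of_loop 2688 v83 rfl)))) (RngF.app (RngF.app (RngF.app (rngZ_of_loop 2720 v84 rfl) (rngZ_of_loop 2752 v85 rfl)) (RngF.app (rngZ_of_loop 2784 v86 rfl) (rngZ_of_loop 2816 v87 rfl))) (RngF.app (RngF.app (rngZ_of_loop 2848 v88 rfl)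 (rngZ_of_loop 2880 v89 rfl)) (RngF.app (rngZ_of_loop 2912 v90 rfl) (rngZ_of_loop 2944 v91 rfl)))))) (RngF.app (RngF.app (RngF.app (RngF.app (rngZ_of_loop 2976 v92 rfl) (RngF.app (rngZ_of_loop 3008 v93 rfl) (rngZ_of_loop 3040 v94 rfl))) (RngF.app (RngF.app (rngZ_of_loop 3072 v95 rfl) (rngZ_of_loop 3104 v96 rfl)) (RngF.app (rngZ_of_loop 3136 v97 rfl) (rngZ_of_loop 3168 v98 rfl)))) (RngF.app (RngF.app (RngF.app (rngZ_of_loop 3200 v99 rfl) (rngZ_of_loop 3232 v100 rfl)) (RngF.app (rngZ_of_loop 3264 v101 rfl) (rngZ_of_loop 3296 v102 rfl))) (RngF.app (RngF.app (rngZ_of_loop 3328 v103 rfl) (rngZ_of_loop 3360 v104 rfl)) (RngF.app (rngZ_of_loop 3392 v105 rfl) (rngZ_of_loop 3424 v106 rfl))))) (RngF.app (RngF.app (RngF.app (RngF.app (rngZ_of_loop 3456 v107 rfl) (rngZ_of_loop 3488 v108 rfl)) (RngF.app (rngZ_of_loop 3520 v109 rfl) (rngZ_of_loop 3552 v110 rfl))) (RngF.app (RngF.app (rngZ_of_loop 3584 v111 rfl) (rngZ_of_loop 3616 v112 rfl)) (RngF.app (rngZ_of_loop 3648 v113 rfl)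 (rngZ_of_loop 3680 v114 rfl)))) (RngF.app (RngF.app (RngF.app (rngZ_of_loop 3712 v115 rfl) (rngZ_of_loop 3744 v116 rfl)) (RngF.app (rngZ_of_loop 3776 v117 rfl) (rngZ_of_loop 3808 v118 rfl))) (RngF.app (RngF.app (rngZ_of_loop 3840 v119 rfl) (rngZ_of_loop 3872 v120 rfl)) (RngF.app (rngZ_of_loop 3904 v121 rfl) (rngZ_of_loop 3936 v122 rfl))))))))

end H34.Fi23a
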