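import Cfsg.Agent.Lib.H34.Fi23a.PData

set_option autoImplicit false
set_option maxRecDepth 100000
set_option Elab.async false

noncomputable section

namespace H34.Fi23a

open H34.T2

theorem v123 : loop2 (fun i => Nat.beq (Z i) 0) 2 16 3936 = true := by decide +kernel
theorem v124 : loop2 (fun i => Nat.beq (Z i) 0) 2 16 3968 = true := by decide +kernel
theorem v125 : loop2 (fun i => Nat.beq (Z i) 0) 2 16 4000 = true := by decide +kernel
theorem v126 : loop2 (fun i => Nat.beq (Z i) 0) 2 16 4032 = true := by decide +kernel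
theorem v127 : loop2 (fun i => Nat.beq (Z i) 0) 2 16 4064 = true := by decide +kernel
theorem v128 : loop2 (fun i => Nat.beq (Z i) 0) 2 16 4096 = true := by decide +kernel
theorem v129 : loop2 (fun i => Nat.beq (Z i) 0) 2 16 4128 = true := by decide +kernel
theorem v130 : loop2 (fun i => Nat.beq (Z i) 0) 2 16 4160 = true := by decide +kernel
theorem v131 : loop2 (fun i => Nat.beq (Z i) 0) 2 16 4192 = true := by decide +kernel
theorem v132 : loop2 (fun i => Nat.beq (Z i) 0) 2 16 4224 = true := by decide +kernel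
theorem v133 : loop2 (fun i => Nat.beq (Z i) 0) 2 16 4256 = true := by decide +kernel
theorem v134 : loop2 (fun i => Nat.beq (Z i) 0) 2 16 4288 = true := by decide +kernel
theorem v135 : loop2 (fun i => Nat.beq (Z i) 0) 2 16 4320 = true := by decide +kernel
theorem v136 : loop2 (fun i => Nat.beq (Z i) 0) 2 16 4352 = true := by decide +kernel
theorem v137 : loop2 (fun i => Nat.beq (Z i) 0) 2 16 4384 = true := by decide +kernel
theorem v138 : loop2 (fun i => Nat.beq (Z i) 0) 2 16 4416 = true := by decide +kernel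
theorem v139 : loop2 (fun i => Nat.beq (Z i) 0) 2 16 4448 = true := by decide +kernel
theorem v140 : loop2 (fun i => Nat.beq (Z i) 0) 2 16 4480 = true := by decide +kernel
theorem v141 : loop2 (fun i => Nat.beq (Z i) 0) 2 16 4512 = true := by decide +kernel
theorem v142 : loop2 (fun i => Nat.beq (Z i) 0) 2 16 4544 = true := by decide +kernel
theorem v143 : loop2 (fun i => Nat.beq (Z i) 0) 2 16 4576 = true := by decide +kernel
theorem v144 : loop2 (fun i => Nat.beq (Z i) 0) 2 16 4608 = true := by decide +kernel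
theorem v145 : loop2 (fun i => Nat.beq (Z i) 0) 2 16 4640 = true := by decide +kernel
theorem v146 : loop2 (fun i => Nat.beq (Z i) 0) 2 16 4672 = true := by decide +kernel
theorem v147 : loop2 (fun i => Nat.beq (Z i) 0) 2 16 4704 = true := by decide +kernel
theorem v148 : loop2 (fun i => Nat.beq (Z i) 0) 2 16 4736 = true := by decide +kernel
theorem v149 : loop2 (fun i => Nat.beq (Z i) 0) 2 16 4768 = true := by decide +kernel
theorem v150 : loop2 (fun i => Nat.beq (Z i) 0) 2 16 4800 = true := by decide +kernel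
theorem v151 : loop2 (fun i => Nat.beq (Z i) 0) 2 16 4832 = true := by decide +kernel
theorem v152 : loop2 (fun i => Nat.beq (Z i) 0) 2 16 4864 = true := by decide +kernel
theorem v153 : loop2 (fun i => Nat.beq (Z i) 0) 2 16 4896 = true := by decide +kernel
theorem v154 : loop2 (fun i => Nat.beq (Z i) 0) 2 16 4928 = true := by decide +kernel
theorem v155 : loop2 (fun i => Nat.beq (Z i) 0) 2 16 4960 = true := by decide +kernel
theorem v156 : loop2 (fun i => Nat.beq (Z i) 0) 2 16 4992 = true := by decide +kernel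
theorem v157 : loop2 (fun i => Nat.beq (Z i) 0) 2 16 5024 = true := by decide +kernel
theorem v158 : loop2 (fun i => Nat.beq (Z i) 0) 2 16 5056 = true := by decide +kernel
theorem v159 : loop2 (fun i => Nat.beq (Z i) 0) 2 16 5088 = true := by decide +kernel
theorem v160 : loop2 (fun i => Nat.beq (Z i) 0) 2 16 5120 = true := by decide +kernel
theorem v161 : loop2 (fun i => Nat.beq (Z i) 0) 2 16 5152 = true := by decide +kernel
theorem v162 : loop2 (fun i => Nat.beq (Z i) 0) 2 16 5184 = true := by decide +kernel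
theorem v163 : loop2 (fun i => Nat.beq (Z i) 0) 2 16 5216 = true := by decide +kernel
theorem v164 : loop2 (fun i => Nat.beq (Z i) 0) 2 16 5248 = true := by decide +kernel
theorem v165 : loop2 (fun i => Nat.beq (Z i) 0) 2 16 5280 = true := by decide +kernel
theorem v166 : loop2 (fun i => Nat.beq (Z i) 0) 2 16 5312 = true := by decide +kernel
theorem v167 : loop2 (fun i => Nat.beq (Z i) 0) 2 16 5344 = true := by decide +kernel
theorem v168 : loop2 (fun i => Nat.beq (Z i) 0) 2 16 5376 = true := by decide +kernel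
theorem v169 : loop2 (fun i => Nat.beq (Z i) 0) 2 16 5408 = true := by decide +kernel
theorem v170 : loop2 (fun i => Nat.beq (Z i) 0) 2 16 5440 = true := by decide +kernel
theorem v171 : loop2 (fun i => Nat.beq (Z i) 0) 2 16 5472 = true := by decide +kernel
theorem v172 : loop2 (fun i => Nat.beq (Z i) 0) 2 16 5504 = true := by decide +kernel
theorem v173 : loop2 (fun i => Nat.beq (Z i) 0) 2 16 5536 = true := by decide +kernel
theorem v174 : loop2 (fun i => Nat.beq (Z i) 0) 2 16 5568 = true := by decide +kernel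
theorem v175 : loop2 (fun i => Nat.beq (Z i) 0) 2 16 5600 = true := by decide +kernel
theorem v176 : loop2 (fun i => Nat.beq (Z i) 0) 2 16 5632 = true := by decide +kernel
theorem v177 : loop2 (fun i => Nat.beq (Z i) 0) 2 16 5664 = true := by decide +kernel
theorem v178 : loop2 (fun i => Nat.beq (Z i) 0) 2 16 5696 = true := by decide +kernel
theorem v179 : loop2 (fun i => Nat.beq (Z i) 0) 2 16 5728 = true := by decide +kernel
theorem v180 : loop2 (fun i => Nat.beq (Z i) 0) 2 16 5760 = true := by decide +kernel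
theorem v181 : loop2 (fun i => Nat.beq (Z i) 0) 2 16 5792 = true := by decide +kernel
theorem v182 : loop2 (fun i => Nat.beq (Z i) 0) 2 16 5824 = true := by decide +kernel
theorem v183 : loop2 (fun i => Nat.beq (Z i) 0) 2 16 5856 = true := by decide +kernel
theorem v184 : loop2 (fun i => Nat.beq (Z i) 0) 2 16 5888 = true := by decide +kernel
theorem v185 : loop2 (fun i => Nat.beq (Z i) 0) 2 16 5920 = true := by decide +kernel
theorem v186 : loop2 (fun i => Nat.beq (Z i) 0) 2 16 5952 = true := by decide +kernel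
theorem v187 : loop2 (fun i => Nat.beq (Z i) 0) 2 16 5984 = true := by decide +kernel
theorem v188 : loop2 (fun i => Nat.beq (Z i) 0) 2 16 6016 = true := by decide +kernel
theorem v189 : loop2 (fun i => Nat.beq (Z i) 0) 2 16 6048 = true := by decide +kernel
theorem v190 : loop2 (fun i => Nat.beq (Z i) 0) 2 16 6080 = true := by decide +kernel
theorem v191 : loop2 (fun i => Nat.beq (Z i) 0) 2 16 6112 = true := by decide +kernel
theorem v192 : loop2 (fun i => Nat.beq (Z i) 0) 2 16 6144 = true := by decide +kernel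
theorem v193 : loop2 (fun i => Nat.beq (Z i) 0) 2 16 6176 = true := by decide +kernel
theorem v194 : loop2 (fun i => Nat.beq (Z i) 0) 2 16 6208 = true := by decide +kernel
theorem v195 : loop2 (fun i => Nat.beq (Z i) 0) 2 16 6240 = true := by decide +kernel
theorem v196 : loop2 (fun i => Nat.beq (Z i) 0) 2 16 6272 = true := by decide +kernel
theorem v197 : loop2 (fun i => Nat.beq (Z i) 0) 2 16 6304 = true := by decide +kernel
theorem v198 : loop2 (fun i => Nat.beq (Z i) 0) 2 16 6336 = true := by decide +kernel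
theorem v199 : loop2 (fun i => Nat.beq (Z i) 0) 2 16 6368 = true := by decide +kernel
theorem v200 : loop2 (fun i => Nat.beq (Z i) 0) 2 16 6400 = true := by decide +kernel
theorem v201 : loop2 (fun i => Nat.beq (Z i) 0) 2 16 6432 = true := by decide +kernel
theorem v202 : loop2 (fun i => Nat.beq (Z i) 0) 2 16 6464 = true := by decide +kernel
theorem v203 : loop2 (fun i => Nat.beq (Z i) 0) 2 16 6496 = true := by decide +kernel
theorem v204 : loop2 (fun i => Nat.beq (Z i) 0) 2 16 6528 = true := by decide +kernel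
theorem v205 : loop2 (fun i => Nat.beq (Z i) 0) 2 16 6560 = true := by decide +kernel
theorem v206 : loop2 (fun i => Nat.beq (Z i) 0) 2 16 6592 = true := by decide +kernel
theorem v207 : loop2 (fun i => Nat.beq (Z i) 0) 2 16 6624 = true := by decide +kernel
theorem v208 : loop2 (fun i => Nat.beq (Z i) 0) 2 16 6656 = true := by decide +kernel
theorem v209 : loop2 (fun i => Nat.beq (Z i) 0) 2 16 6688 = true := by decide +kernel
theorem v210 : loop2 (fun i => Nat.beq (Z i) 0) 2 16 6720 = true := by decide +kernel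
theorem v211 : loop2 (fun i => Nat.beq (Z i) 0) 2 16 6752 = true := by decide +kernel
theorem v212 : loop2 (fun i => Nat.beq (Z i) 0) 2 16 6784 = true := by decide +kernel
theorem v213 : loop2 (fun i => Nat.beq (Z i) 0) 2 16 6816 = true := by decide +kernel
theorem v214 : loop2 (fun i => Nat.beq (Z i) 0) 2 16 6848 = true := by decide +kernel
theorem v215 : loop2 (fun i => Nat.beq (Z i) 0) 2 16 6880 = true := by decide +kernel
theorem v216 : loop2 (fun i => Nat.beq (Z i) 0) 2 16 6912 = true := by decide +kernel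
theorem v217 : loop2 (fun i => Nat.beq (Z i) 0) 2 16 6944 = true := by decide +kernel
theorem v218 : loop2 (fun i => Nat.beq (Z i) 0) 2 16 6976 = true := by decide +kernel
theorem v219 : loop2 (fun i => Nat.beq (Z i) 0) 2 16 7008 = true := by decide +kernel
theorem v220 : loop2 (fun i => Nat.beq (Z i) 0) 2 16 7040 = true := by decide +kernel
theorem v221 : loop2 (fun i => Nat.beq (Z i) 0) 2 16 7072 = true := by decide +kernel
theorem v222 : loop2 (fun i => Nat.beq (Z i) 0) 2 16 7104 = true := by decide +kernel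
theorem v223 : loop2 (fun i => Nat.beq (Z i) 0) 2 16 7136 = true := by decide +kernel
theorem v224 : loop2 (fun i => Nat.beq (Z i) 0) 2 16 7168 = true := by decide +kernel
theorem v225 : loop2 (fun i => Nat.beq (Z i) 0) 2 16 7200 = true := by decide +kernel
theorem v226 : loop2 (fun i => Nat.beq (Z i) 0) 2 16 7232 = true := by decide +kernel
theorem v227 : loop2 (fun i => Nat.beq (Z i) 0) 2 16 7264 = true := by decide +kernel
theorem v228 : loop2 (fun i => Nat.beq (Z i) 0) 2 16 7296 = true := by decide +kernel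
theorem v229 : loop2 (fun i => Nat.beq (Z i) 0) 2 16 7328 = true := by decide +kernel
theorem v230 : loop2 (fun i => Nat.beq (Z i) 0) 2 16 7360 = true := by decide +kernel
theorem v231 : loop2 (fun i => Nat.beq (Z i) 0) 2 16 7392 = true := by decide +kernel
theorem v232 : loop2 (fun i => Nat.beq (Z i) 0) 2 16 7424 = true := by decide +kernel
theorem v233 : loop2 (fun i => Nat.beq (Z i) 0) 2 16 7456 = true := by decide +kernel
theorem v234 : loop2 (fun i => Nat.beq (Z i) 0) 2 16 7488 = true := by decide +kernel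
theorem v235 : loop2 (fun i => Nat.beq (Z i) 0) 2 16 7520 = true := by decide +kernel
theorem v236 : loop2 (fun i => Nat.beq (Z i) 0) 2 16 7552 = true := by decide +kernel
theorem v237 : loop2 (fun i => Nat.beq (Z i) 0) 2 16 7584 = true := by decide +kernel
theorem v238 : loop2 (fun i => Nat.beq (Z i) 0) 2 16 7616 = true := by decide +kernel
theorem v239 : loop2 (fun i => Nat.beq (Z i) 0) 2 16 7648 = true := by decide +kernel
theorem v240 : loop2 (fun i => Nat.beq (Z i) 0) 2 16 7680 = true := by decide +kernel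
theorem v241 : loop2 (fun i => Nat.beq (Z i) 0) 2 16 7712 = true := by decide +kernel
theorem v242 : loop2 (fun i => Nat.beq (Z i) 0) 2 16 7744 = true := by decide +kernel
theorem v243 : loop2 (fun i => Nat.beq (Z i) 0) 2 16 7776 = true := by decide +kernel
theorem v244 : loop2 (fun i => Nat.beq (Z i) 0) 2 16 7808 = true := by decide +kernel
theorem v245 : loop2 (fun i => Nat.beq (Z i) 0) 2 16 7840 = true := by decide +kernel
theorem v246 : loop2 (fun i => Nat.beq (Z i) 0) 2 16 7872 = true := by decide +kernel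
theorem z1 : RngF (fun _ z => z = 0) Z 3936 7904 := (RngF.app (RngF.app (RngF.app (RngF.app (RngF.app (RngF.app (rngZ_of_loop 3968 v123 rfl) (RngF.app (rngZ_of_loop 4000 v124 rfl) (rngZ_of_loop 4032 v125 rfl))) (RngF.app (RngF.app (rngZ_of_loop 4064 v126 rfl) (rngZ_of_loop 4096 v127 rfl)) (RngF.app (rngZ_of_loop 4128 v128 rfl) (rngZ_of_loop 4160 v129 rfl)))) (RngF.app (RngF.app (RngF.app (rngZ_of_loop 4192 v130 rfl) (rngZ_of_loop 4224 v131 rfl)) (RngF.app (rngZ_of_loop 4256 v132 rfl) (rngZ_of_loop 4288 v133 rfl))) (RngF.app (RngF.app (rngZ_of_loop 4320 v134 rfl) (rngZ_of_loop 4352 v135 rfl)) (RngF.app (rngZ_of_loop 4384 v136 rfl) (rngZ_of_loop 4416 v137 rfl))))) (RngF.app (RngF.app (RngF.app (RngF.app (rngZ_of_loop 4448 v138 rfl) (rngZ_of_loop 4480 v139 rfl)) (RngF.app (rngZ_of_loop 4512 v140 rfl) (rngZ_of_loop 4544 v141 rfl))) (RngF.app (RngF.app (rngZ_of_loop 4576 v142 rfl) (rngZ_of_loop 4608 v143 rfl)) (RngF.app (rngZ_of_loop 4640 v144 rfl) (rngZ_of_loop 4672 v145 rfl))))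 (RngF.app (RngF.app (RngF.app (rngZ_of_loop 4704 v146 rfl) (rngZ_of_loop 4736 v147 rfl)) (RngF.app (rngZ_of_loop 4768 v148 rfl) (rngZ_of_loop 4800 v149 rfl))) (RngF.app (RngF.app (rngZ_of_loop 4832 v150 rfl) (rngZ_of_loop 4864 v151 rfl)) (RngF.app (rngZ_of_loop 4896 v152 rfl) (rngZ_of_loop 4928 v153 rfl)))))) (RngF.app (RngF.app (RngF.app (RngF.app (rngZ_of_loop 4960 v154 rfl) (RngF.app (rngZ_of_loop 4992 v155 rfl) (rngZ_of_loop 5024 v156 rfl))) (RngF.app (RngF.app (rngZ_of_loop 5056 v157 rfl) (rngZ_of_loop 5088 v158 rfl)) (RngF.app (rngZ_of_loop 5120 v159 rfl) (rngZ_of_loop 5152 v160 rfl)))) (RngF.app (RngF.app (RngF.app (rngZ_of_loop 5184 v161 rfl) (rngZ_of_loop 5216 v162 rfl)) (RngF.app (rngZ_of_loop 5248 v163 rfl) (rngZ_of_loop 5280 v164 rfl))) (RngF.app (RngF.app (rngZ_of_loop 5312 v165 rfl) (rngZ_of_loop 5344 v166 rfl)) (RngF.app (rngZ_of_loop 5376 v167 rfl) (rngZ_of_loop 5408 v168 rfl))))) (RngF.app (RngF.app (RngF.app (RngF.app (rngZ_of_loop 5440 v169 rfl) (rngZ_of_loop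 5472 v170 rfl)) (RngF.app (rngZ_of_loop 5504 v171 rfl) (rngZ_of_loop 5536 v172 rfl))) (RngF.app (RngF.app (rngZ_of_loop 5568 v173 rfl) (rngZ_of_loop 5600 v174 rfl)) (RngF.app (rngZ_of_loop 5632 v175 rfl) (rngZ_of_loop 5664 v176 rfl)))) (RngF.app (RngF.app (RngF.app (rngZ_of_loop 5696 v177 rfl) (rngZ_of_loop 5728 v178 rfl)) (RngF.app (rngZ_of_loop 5760 v179 rfl) (rngZ_of_loop 5792 v180 rfl))) (RngF.app (RngF.app (rngZ_of_loop 5824 v181 rfl) (rngZ_of_loop 5856 v182 rfl)) (RngF.app (rngZ_of_loop 5888 v183 rfl) (rngZ_of_loop 5920 v184 rfl))))))) (RngF.app (RngF.app (RngF.app (RngF.app (RngF.app (rngZ_of_loop 5952 v185 rfl) (RngF.app (rngZ_of_loop 5984 v186 rfl) (rngZ_of_loop 6016 v187 rfl))) (RngF.app (RngF.app (rngZ_of_loop 6048 v188 rfl) (rngZ_of_loop 6080 v189 rfl)) (RngF.app (rngZ_of_loop 6112 v190 rfl) (rngZ_of_loop 6144 v191 rfl)))) (RngF.app (RngF.app (RngF.app (rngZ_of_loop 6176 v192 rfl) (rngZ_of_loop 6208 v193 rfl)) (RngF.app (rngZ_of_loop 6240 v194 rfl) (rngZ_of_loop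 6272 v195 rfl))) (RngF.app (RngF.app (rngZ_of_loop 6304 v196 rfl) (rngZ_of_loop 6336 v197 rfl)) (RngF.app (rngZ_of_loop 6368 v198 rfl) (rngZ_of_loop 6400 v199 rfl))))) (RngF.app (RngF.app (RngF.app (RngF.app (rngZ_of_loop 6432 v200 rfl) (rngZ_of_loop 6464 v201 rfl)) (RngF.app (rngZ_of_loop 6496 v202 rfl) (rngZ_of_loop 6528 v203 rfl))) (RngF.app (RngF.app (rngZ_of_loop 6560 v204 rfl) (rngZ_of_loop 6592 v205 rfl)) (RngF.app (rngZ_of_loop 6624 v206 rfl) (rngZ_of_loop 6656 v207 rfl)))) (RngF.app (RngF.app (RngF.app (rngZ_of_loop 6688 v208 rfl) (rngZ_of_loop 6720 v209 rfl)) (RngF.app (rngZ_of_loop 6752 v210 rfl) (rngZ_of_loop 6784 v211 rfl))) (RngF.app (RngF.app (rngZ_of_loop 6816 v212 rfl) (rngZ_of_loop 6848 v213 rfl)) (RngF.app (rngZ_of_loop 6880 v214 rfl) (rngZ_of_loop 6912 v215 rfl)))))) (RngF.app (RngF.app (RngF.app (RngF.app (rngZ_of_loop 6944 v216 rfl) (RngF.app (rngZ_of_loop 6976 v217 rfl) (rngZ_of_loop 7008 v218 rfl))) (RngF.app (RngF.app (rngZ_of_loop 7040 v219 rfl) (rngZ_of_loop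 7072 v220 rfl)) (RngF.app (rngZ_of_loop 7104 v221 rfl) (rngZ_of_loop 7136 v222 rfl)))) (RngF.app (RngF.app (RngF.app (rngZ_of_loop 7168 v223 rfl) (rngZ_of_loop 7200 v224 rfl)) (RngF.app (rngZ_of_loop 7232 v225 rfl) (rngZ_of_loop 7264 v226 rfl))) (RngF.app (RngF.app (rngZ_of_loop 7296 v227 rfl) (rngZ_of_loop 7328 v228 rfl)) (RngF.app (rngZ_of_loop 7360 v229 rfl) (rngZ_of_loop 7392 v230 rfl))))) (RngF.app (RngF.app (RngF.app (RngF.app (rngZ_of_loop 7424 v231 rfl) (rngZ_of_loop 7456 v232 rfl)) (RngF.app (rngZ_of_loop 7488 v233 rfl) (rngZ_of_loop 7520 v234 rfl))) (RngF.app (RngF.app (rngZ_of_loop 7552 v235 rfl) (rngZ_of_loop 7584 v236 rfl)) (RngF.app (rngZ_of_loop 7616 v237 rfl) (rngZ_of_loop 7648 v238 rfl)))) (RngF.app (RngF.app (RngF.app (rngZ_of_loop 7680 v239 rfl) (rngZ_of_loop 7712 v240 rfl)) (RngF.app (rngZ_of_loop 7744 v241 rfl) (rngZ_of_loop 7776 v242 rfl))) (RngF.app (RngF.app (rngZ_of_loop 7808 v243 rfl) (rngZ_of_loop 7840 v244 rfl)) (RngF.app (rngZ_of_loop 7872 v245 rfl)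 (rngZ_of_loop 7904 v246 rfl))))))))

end H34.Fi23a
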