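import Cfsg.Agent.Lib.H34.Fi23a.PData

set_option autoImplicit false
set_option maxRecDepth 100000
set_option Elab.async false

noncomputable section

namespace H34.Fi23a

open H34.T2

theorem v247 : loop2 (fun i => Nat.beq (Z i) 0) 2 16 7904 = true := by decide +kernel
theorem v248 : loop2 (fun i => Nat.beq (Z i) 0) 2 16 7936 = true := by decide +kernel
theorem v249 : loop2 (fun i => Nat.beq (Z i) 0) 2 16 7968 = true := by decide +kernel
theorem v250 : loop2 (fun i => Nat.beq (Z i) 0) 2 16 8000 = true := by decide +kernel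
theorem v251 : loop2 (fun i => Nat.beq (Z i) 0) 2 16 8032 = true := by decide +kernel
theorem v252 : loop2 (fun i => Nat.beq (Z i) 0) 2 16 8064 = true := by decide +kernel
theorem v253 : loop2 (fun i => Nat.beq (Z i) 0) 2 16 8096 = true := by decide +kernel
theorem v254 : loop2 (fun i => Nat.beq (Z i) 0) 2 16 8128 = true := by decide +kernel
theorem v255 : loop2 (fun i => Nat.beq (Z i) 0) 2 16 8160 = true := by decide +kernel
theorem v256 : loop2 (fun i => Nat.beq (Z i) 0) 2 16 8192 = true := by decide +kernel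
theorem v257 : loop2 (fun i => Nat.beq (Z i) 0) 2 16 8224 = true := by decide +kernel
theorem v258 : loop2 (fun i => Nat.beq (Z i) 0) 2 16 8256 = true := by decide +kernel
theorem v259 : loop2 (fun i => Nat.beq (Z i) 0) 2 16 8288 = true := by decide +kernel
theorem v260 : loop2 (fun i => Nat.beq (Z i) 0) 2 16 8320 = true := by decide +kernel
theorem v261 : loop2 (fun i => Nat.beq (Z i) 0) 2 16 8352 = true := by decide +kernel
theorem v262 : loop2 (fun i => Nat.beq (Z i) 0) 2 16 8384 = true := by decide +kernel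
theorem v263 : loop2 (fun i => Nat.beq (Z i) 0) 2 16 8416 = true := by decide +kernel
theorem v264 : loop2 (fun i => Nat.beq (Z i) 0) 2 16 8448 = true := by decide +kernel
theorem v265 : loop2 (fun i => Nat.beq (Z i) 0) 2 16 8480 = true := by decide +kernel
theorem v266 : loop2 (fun i => Nat.beq (Z i) 0) 2 16 8512 = true := by decide +kernel
theorem v267 : loop2 (fun i => Nat.beq (Z i) 0) 2 16 8544 = true := by decide +kernel
theorem v268 : loop2 (fun i => Nat.beq (Z i) 0) 2 16 8576 = true := by decide +kernel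
theorem v269 : loop2 (fun i => Nat.beq (Z i) 0) 2 16 8608 = true := by decide +kernel
theorem v270 : loop2 (fun i => Nat.beq (Z i) 0) 2 16 8640 = true := by decide +kernel
theorem v271 : loop2 (fun i => Nat.beq (Z i) 0) 2 16 8672 = true := by decide +kernel
theorem v272 : loop2 (fun i => Nat.beq (Z i) 0) 2 16 8704 = true := by decide +kernel
theorem v273 : loop2 (fun i => Nat.beq (Z i) 0) 2 16 8736 = true := by decide +kernel
theorem v274 : loop2 (fun i => Nat.beq (Z i) 0) 2 16 8768 = true := by decide +kernel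
theorem v275 : loop2 (fun i => Nat.beq (Z i) 0) 2 16 8800 = true := by decide +kernel
theorem v276 : loop2 (fun i => Nat.beq (Z i) 0) 2 16 8832 = true := by decide +kernel
theorem v277 : loop2 (fun i => Nat.beq (Z i) 0) 2 16 8864 = true := by decide +kernel
theorem v278 : loop2 (fun i => Nat.beq (Z i) 0) 2 16 8896 = true := by decide +kernel
theorem v279 : loop2 (fun i => Nat.beq (Z i) 0) 2 16 8928 = true := by decide +kernel
theorem v280 : loop2 (fun i => Nat.beq (Z i) 0) 2 16 8960 = true := by decide +kernel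
theorem v281 : loop2 (fun i => Nat.beq (Z i) 0) 2 16 8992 = true := by decide +kernel
theorem v282 : loop2 (fun i => Nat.beq (Z i) 0) 2 16 9024 = true := by decide +kernel
theorem v283 : loop2 (fun i => Nat.beq (Z i) 0) 2 16 9056 = true := by decide +kernel
theorem v284 : loop2 (fun i => Nat.beq (Z i) 0) 2 16 9088 = true := by decide +kernel
theorem v285 : loop2 (fun i => Nat.beq (Z i) 0) 2 16 9120 = true := by decide +kernel
theorem v286 : loop2 (fun i => Nat.beq (Z i) 0) 2 16 9152 = true := by decide +kernel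
theorem v287 : loop2 (fun i => Nat.beq (Z i) 0) 2 16 9184 = true := by decide +kernel
theorem v288 : loop2 (fun i => Nat.beq (Z i) 0) 2 16 9216 = true := by decide +kernel
theorem v289 : loop2 (fun i => Nat.beq (Z i) 0) 2 16 9248 = true := by decide +kernel
theorem v290 : loop2 (fun i => Nat.beq (Z i) 0) 2 16 9280 = true := by decide +kernel
theorem v291 : loop2 (fun i => Nat.beq (Z i) 0) 2 16 9312 = true := by decide +kernel
theorem v292 : loop2 (fun i => Nat.beq (Z i) 0) 2 16 9344 = true := by decide +kernel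
theorem v293 : loop2 (fun i => Nat.beq (Z i) 0) 2 16 9376 = true := by decide +kernel
theorem v294 : loop2 (fun i => Nat.beq (Z i) 0) 2 16 9408 = true := by decide +kernel
theorem v295 : loop2 (fun i => Nat.beq (Z i) 0) 2 16 9440 = true := by decide +kernel
theorem v296 : loop2 (fun i => Nat.beq (Z i) 0) 2 16 9472 = true := by decide +kernel
theorem v297 : loop2 (fun i => Nat.beq (Z i) 0) 2 16 9504 = true := by decide +kernel
theorem v298 : loop2 (fun i => Nat.beq (Z i) 0) 2 16 9536 = true := by decide +kernel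
theorem v299 : loop2 (fun i => Nat.beq (Z i) 0) 2 16 9568 = true := by decide +kernel
theorem v300 : loop2 (fun i => Nat.beq (Z i) 0) 2 16 9600 = true := by decide +kernel
theorem v301 : loop2 (fun i => Nat.beq (Z i) 0) 2 16 9632 = true := by decide +kernel
theorem v302 : loop2 (fun i => Nat.beq (Z i) 0) 2 16 9664 = true := by decide +kernel
theorem v303 : loop2 (fun i => Nat.beq (Z i) 0) 2 16 9696 = true := by decide +kernel
theorem v304 : loop2 (fun i => Nat.beq (Z i) 0) 2 16 9728 = true := by decide +kernel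
theorem v305 : loop2 (fun i => Nat.beq (Z i) 0) 2 16 9760 = true := by decide +kernel
theorem v306 : loop2 (fun i => Nat.beq (Z i) 0) 2 16 9792 = true := by decide +kernel
theorem v307 : loop2 (fun i => Nat.beq (Z i) 0) 2 16 9824 = true := by decide +kernel
theorem v308 : loop2 (fun i => Nat.beq (Z i) 0) 2 16 9856 = true := by decide +kernel
theorem v309 : loop2 (fun i => Nat.beq (Z i) 0) 2 16 9888 = true := by decide +kernel
theorem v310 : loop2 (fun i => Nat.beq (Z i) 0) 2 16 9920 = true := by decide +kernel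
theorem v311 : loop2 (fun i => Nat.beq (Z i) 0) 2 16 9952 = true := by decide +kernel
theorem v312 : loop2 (fun i => Nat.beq (Z i) 0) 2 16 9984 = true := by decide +kernel
theorem v313 : loop2 (fun i => Nat.beq (Z i) 0) 2 16 10016 = true := by decide +kernel
theorem v314 : loop2 (fun i => Nat.beq (Z i) 0) 2 16 10048 = true := by decide +kernel
theorem v315 : loop2 (fun i => Nat.beq (Z i) 0) 2 16 10080 = true := by decide +kernel
theorem v316 : loop2 (fun i => Nat.beq (Z i) 0) 2 16 10112 = true := by decide +kernel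
theorem v317 : loop2 (fun i => Nat.beq (Z i) 0) 2 16 10144 = true := by decide +kernel
theorem v318 : loop2 (fun i => Nat.beq (Z i) 0) 2 16 10176 = true := by decide +kernel
theorem v319 : loop2 (fun i => Nat.beq (Z i) 0) 2 16 10208 = true := by decide +kernel
theorem v320 : loop2 (fun i => Nat.beq (Z i) 0) 2 16 10240 = true := by decide +kernel
theorem v321 : loop2 (fun i => Nat.beq (Z i) 0) 2 16 10272 = true := by decide +kernel
theorem v322 : loop2 (fun i => Nat.beq (Z i) 0) 2 16 10304 = true := by decide +kernel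
theorem v323 : loop2 (fun i => Nat.beq (Z i) 0) 2 16 10336 = true := by decide +kernel
theorem v324 : loop2 (fun i => Nat.beq (Z i) 0) 2 16 10368 = true := by decide +kernel
theorem v325 : loop2 (fun i => Nat.beq (Z i) 0) 2 16 10400 = true := by decide +kernel
theorem v326 : loop2 (fun i => Nat.beq (Z i) 0) 2 16 10432 = true := by decide +kernel
theorem v327 : loop2 (fun i => Nat.beq (Z i) 0) 2 16 10464 = true := by decide +kernel
theorem v328 : loop2 (fun i => Nat.beq (Z i) 0) 2 16 10496 = true := by decide +kernel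
theorem v329 : loop2 (fun i => Nat.beq (Z i) 0) 2 16 10528 = true := by decide +kernel
theorem v330 : loop2 (fun i => Nat.beq (Z i) 0) 2 16 10560 = true := by decide +kernel
theorem v331 : loop2 (fun i => Nat.beq (Z i) 0) 2 16 10592 = true := by decide +kernel
theorem v332 : loop2 (fun i => Nat.beq (Z i) 0) 2 16 10624 = true := by decide +kernel
theorem v333 : loop2 (fun i => Nat.beq (Z i) 0) 2 16 10656 = true := by decide +kernel
theorem v334 : loop2 (fun i => Nat.beq (Z i) 0) 2 16 10688 = true := by decide +kernel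
theorem v335 : loop2 (fun i => Nat.beq (Z i) 0) 2 16 10720 = true := by decide +kernel
theorem v336 : loop2 (fun i => Nat.beq (Z i) 0) 2 16 10752 = true := by decide +kernel
theorem v337 : loop2 (fun i => Nat.beq (Z i) 0) 2 16 10784 = true := by decide +kernel
theorem v338 : loop2 (fun i => Nat.beq (Z i) 0) 2 16 10816 = true := by decide +kernel
theorem v339 : loop2 (fun i => Nat.beq (Z i) 0) 2 16 10848 = true := by decide +kernel
theorem v340 : loop2 (fun i => Nat.beq (Z i) 0) 2 16 10880 = true := by decide +kernel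
theorem v341 : loop2 (fun i => Nat.beq (Z i) 0) 2 16 10912 = true := by decide +kernel
theorem v342 : loop2 (fun i => Nat.beq (Z i) 0) 2 16 10944 = true := by decide +kernel
theorem v343 : loop2 (fun i => Nat.beq (Z i) 0) 2 16 10976 = true := by decide +kernel
theorem v344 : loop2 (fun i => Nat.beq (Z i) 0) 2 16 11008 = true := by decide +kernel
theorem v345 : loop2 (fun i => Nat.beq (Z i) 0) 2 16 11040 = true := by decide +kernel
theorem v346 : loop2 (fun i => Nat.beq (Z i) 0) 2 16 11072 = true := by decide +kernel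
theorem v347 : loop2 (fun i => Nat.beq (Z i) 0) 2 16 11104 = true := by decide +kernel
theorem v348 : loop2 (fun i => Nat.beq (Z i) 0) 2 16 11136 = true := by decide +kernel
theorem v349 : loop2 (fun i => Nat.beq (Z i) 0) 2 16 11168 = true := by decide +kernel
theorem v350 : loop2 (fun i => Nat.beq (Z i) 0) 2 16 11200 = true := by decide +kernel
theorem v351 : loop2 (fun i => Nat.beq (Z i) 0) 2 16 11232 = true := by decide +kernel
theorem v352 : loop2 (fun i => Nat.beq (Z i) 0) 2 16 11264 = true := by decide +kernel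
theorem v353 : loop2 (fun i => Nat.beq (Z i) 0) 2 16 11296 = true := by decide +kernel
theorem v354 : loop2 (fun i => Nat.beq (Z i) 0) 2 16 11328 = true := by decide +kernel
theorem v355 : loop2 (fun i => Nat.beq (Z i) 0) 2 16 11360 = true := by decide +kernel
theorem v356 : loop2 (fun i => Nat.beq (Z i) 0) 2 16 11392 = true := by decide +kernel
theorem v357 : loop2 (fun i => Nat.beq (Z i) 0) 2 16 11424 = true := by decide +kernel
theorem v358 : loop2 (fun i => Nat.beq (Z i) 0) 2 16 11456 = true := by decide +kernel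
theorem v359 : loop2 (fun i => Nat.beq (Z i) 0) 2 16 11488 = true := by decide +kernel
theorem v360 : loop2 (fun i => Nat.beq (Z i) 0) 2 16 11520 = true := by decide +kernel
theorem v361 : loop2 (fun i => Nat.beq (Z i) 0) 2 16 11552 = true := by decide +kernel
theorem v362 : loop2 (fun i => Nat.beq (Z i) 0) 2 16 11584 = true := by decide +kernel
theorem v363 : loop2 (fun i => Nat.beq (Z i) 0) 2 16 11616 = true := by decide +kernel
theorem v364 : loop2 (fun i => Nat.beq (Z i) 0) 2 16 11648 = true := by decide +kernel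
theorem v365 : loop2 (fun i => Nat.beq (Z i) 0) 2 16 11680 = true := by decide +kernel
theorem v366 : loop2 (fun i => Nat.beq (Z i) 0) 2 16 11712 = true := by decide +kernel
theorem v367 : loop2 (fun i => Nat.beq (Z i) 0) 2 16 11744 = true := by decide +kernel
theorem v368 : loop2 (fun i => Nat.beq (Z i) 0) 2 16 11776 = true := by decide +kernel
theorem v369 : loop2 (fun i => Nat.beq (Z i) 0) 2 16 11808 = true := by decide +kernel
theorem v370 : loop2 (fun i => Nat.beq (Z i) 0) 2 16 11840 = true := by decide +kernel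
theorem z2 : RngF (fun _ z => z = 0) Z 7904 11872 := (RngF.app (RngF.app (RngF.app (RngF.app (RngF.app (RngF.app (rngZ_of_loop 7936 v247 rfl) (RngF.app (rngZ_of_loop 7968 v248 rfl) (rngZ_of_loop 8000 v249 rfl))) (RngF.app (RngF.app (rngZ_of_loop 8032 v250 rfl) (rngZ_of_loop 8064 v251 rfl)) (RngF.app (rngZ_of_loop 8096 v252 rfl) (rngZ_of_loop 8128 v253 rfl)))) (RngF.app (RngF.app (RngF.app (rngZ_of_loop 8160 v254 rfl) (rngZ_of_loop 8192 v255 rfl)) (RngF.app (rngZ_of_loop 8224 v256 rfl) (rngZ_of_loop 8256 v257 rfl))) (RngF.app (RngF.app (rngZ_of_loop 8288 v258 rfl) (rngZ_of_loop 8320 v259 rfl)) (RngF.app (rngZ_of_loop 8352 v260 rfl) (rngZ_of_loop 8384 v261 rfl))))) (RngF.app (RngF.app (RngF.app (RngF.app (rngZ_of_loop 8416 v262 rfl) (rngZ_of_loop 8448 v263 rfl)) (RngF.app (rngZ_of_loop 8480 v264 rfl) (rngZ_of_loop 8512 v265 rfl))) (RngF.app (RngF.app (rngZ_of_loop 8544 v266 rfl) (rngZ_of_loop 8576 v267 rfl)) (RngF.app (rngZ_of_loop 8608 v268 rfl) (rngZ_of_loop 8640 v269 rfl)))) (RngF.app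 (RngF.app (RngF.app (rngZ_of_loop 8672 v270 rfl) (rngZ_of_loop 8704 v271 rfl)) (RngF.app (rngZ_of_loop 8736 v272 rfl) (rngZ_of_loop 8768 v273 rfl))) (RngF.app (RngF.app (rngZ_of_loop 8800 v274 rfl) (rngZ_of_loop 8832 v275 rfl)) (RngF.app (rngZ_of_loop 8864 v276 rfl) (rngZ_of_loop 8896 v277 rfl)))))) (RngF.app (RngF.app (RngF.app (RngF.app (rngZ_of_loop 8928 v278 rfl) (RngF.app (rngZ_of_loop 8960 v279 rfl) (rngZ_of_loop 8992 v280 rfl))) (RngF.app (RngF.app (rngZ_of_loop 9024 v281 rfl) (rngZ_of_loop 9056 v282 rfl)) (RngF.app (rngZ_of_loop 9088 v283 rfl) (rngZ_of_loop 9120 v284 rfl)))) (RngF.app (RngF.app (RngF.app (rngZ_of_loop 9152 v285 rfl) (rngZ_of_loop 9184 v286 rfl)) (RngF.app (rngZ_of_loop 9216 v287 rfl) (rngZ_of_loop 9248 v288 rfl))) (RngF.app (RngF.app (rngZ_of_loop 9280 v289 rfl) (rngZ_of_loop 9312 v290 rfl)) (RngF.app (rngZ_of_loop 9344 v291 rfl) (rngZ_of_loop 9376 v292 rfl))))) (RngF.app (RngF.app (RngF.app (RngF.app (rngZ_of_loop 9408 v293 rfl) (rngZ_of_loop 9440 v294 rfl))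 (RngF.app (rngZ_of_loop 9472 v295 rfl) (rngZ_of_loop 9504 v296 rfl))) (RngF.app (RngF.app (rngZ_of_loop 9536 v297 rfl) (rngZ_of_loop 9568 v298 rfl)) (RngF.app (rngZ_of_loop 9600 v299 rfl) (rngZ_of_loop 9632 v300 rfl)))) (RngF.app (RngF.app (RngF.app (rngZ_of_loop 9664 v301 rfl) (rngZ_of_loop 9696 v302 rfl)) (RngF.app (rngZ_of_loop 9728 v303 rfl) (rngZ_of_loop 9760 v304 rfl))) (RngF.app (RngF.app (rngZ_of_loop 9792 v305 rfl) (rngZ_of_loop 9824 v306 rfl)) (RngF.app (rngZ_of_loop 9856 v307 rfl) (rngZ_of_loop 9888 v308 rfl))))))) (RngF.app (RngF.app (RngF.app (RngF.app (RngF.app (rngZ_of_loop 9920 v309 rfl) (RngF.app (rngZ_of_loop 9952 v310 rfl) (rngZ_of_loop 9984 v311 rfl))) (RngF.app (RngF.app (rngZ_of_loop 10016 v312 rfl) (rngZ_of_loop 10048 v313 rfl)) (RngF.app (rngZ_of_loop 10080 v314 rfl) (rngZ_of_loop 10112 v315 rfl)))) (RngF.app (RngF.app (RngF.app (rngZ_of_loop 10144 v316 rfl) (rngZ_of_loop 10176 v317 rfl)) (RngF.app (rngZ_of_loop 10208 v318 rfl) (rngZ_of_loop 10240 v319 rfl)))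 (RngF.app (RngF.app (rngZ_of_loop 10272 v320 rfl) (rngZ_of_loop 10304 v321 rfl)) (RngF.app (rngZ_of_loop 10336 v322 rfl) (rngZ_of_loop 10368 v323 rfl))))) (RngF.app (RngF.app (RngF.app (RngF.app (rngZ_of_loop 10400 v324 rfl) (rngZ_of_loop 10432 v325 rfl)) (RngF.app (rngZ_of_loop 10464 v326 rfl) (rngZ_of_loop 10496 v327 rfl))) (RngF.app (RngF.app (rngZ_of_loop 10528 v328 rfl) (rngZ_of_loop 10560 v329 rfl)) (RngF.app (rngZ_of_loop 10592 v330 rfl) (rngZ_of_loop 10624 v331 rfl)))) (RngF.app (RngF.app (RngF.app (rngZ_of_loop 10656 v332 rfl) (rngZ_of_loop 10688 v333 rfl)) (RngF.app (rngZ_of_loop 10720 v334 rfl) (rngZ_of_loop 10752 v335 rfl))) (RngF.app (RngF.app (rngZ_of_loop 10784 v336 rfl) (rngZ_of_loop 10816 v337 rfl)) (RngF.app (rngZ_of_loop 10848 v338 rfl) (rngZ_of_loop 10880 v339 rfl)))))) (RngF.app (RngF.app (RngF.app (RngF.app (rngZ_of_loop 10912 v340 rfl) (RngF.app (rngZ_of_loop 10944 v341 rfl) (rngZ_of_loop 10976 v342 rfl))) (RngF.app (RngF.app (rngZ_of_loop 11008 v343 rfl) (rngZ_of_loop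 11040 v344 rfl)) (RngF.app (rngZ_of_loop 11072 v345 rfl) (rngZ_of_loop 11104 v346 rfl)))) (RngF.app (RngF.app (RngF.app (rngZ_of_loop 11136 v347 rfl) (rngZ_of_loop 11168 v348 rfl)) (RngF.app (rngZ_of_loop 11200 v349 rfl) (rngZ_of_loop 11232 v350 rfl))) (RngF.app (RngF.app (rngZ_of_loop 11264 v351 rfl) (rngZ_of_loop 11296 v352 rfl)) (RngF.app (rngZ_of_loop 11328 v353 rfl) (rngZ_of_loop 11360 v354 rfl))))) (RngF.app (RngF.app (RngF.app (RngF.app (rngZ_of_loop 11392 v355 rfl) (rngZ_of_loop 11424 v356 rfl)) (RngF.app (rngZ_of_loop 11456 v357 rfl) (rngZ_of_loop 11488 v358 rfl))) (RngF.app (RngF.app (rngZ_of_loop 11520 v359 rfl) (rngZ_of_loop 11552 v360 rfl)) (RngF.app (rngZ_of_loop 11584 v361 rfl) (rngZ_of_loop 11616 v362 rfl)))) (RngF.app (RngF.app (RngF.app (rngZ_of_loop 11648 v363 rfl) (rngZ_of_loop 11680 v364 rfl)) (RngF.app (rngZ_of_loop 11712 v365 rfl) (rngZ_of_loop 11744 v366 rfl))) (RngF.app (RngF.app (rngZ_of_loop 11776 v367 rfl) (rngZ_of_loop 11808 v368 rfl)) (RngF.app (rngZ_of_loop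 11840 v369 rfl) (rngZ_of_loop 11872 v370 rfl))))))))

end H34.Fi23a
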