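import Cfsg.Agent.Lib.H34.Fi23a.PData

set_option autoImplicit false
set_option maxRecDepth 100000
set_option Elab.async false

noncomputable section

namespace H34.Fi23a

open H34.T2

theorem v371 : loop2 (fun i => Nat.beq (Z i) 0) 2 16 11872 = true := by decide +kernel
theorem v372 : loop2 (fun i => Nat.beq (Z i) 0) 2 16 11904 = true := by decide +kernel
theorem v373 : loop2 (fun i => Nat.beq (Z i) 0) 2 16 11936 = true := by decide +kernel
theorem v374 : loop2 (fun i => Nat.beq (Z i) 0) 2 16 11968 = true := by decide +kernel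
theorem v375 : loop2 (fun i => Nat.beq (Z i) 0) 2 16 12000 = true := by decide +kernel
theorem v376 : loop2 (fun i => Nat.beq (Z i) 0) 2 16 12032 = true := by decide +kernel
theorem v377 : loop2 (fun i => Nat.beq (Z i) 0) 2 16 12064 = true := by decide +kernel
theorem v378 : loop2 (fun i => Nat.beq (Z i) 0) 2 16 12096 = true := by decide +kernel
theorem v379 : loop2 (fun i => Nat.beq (Z i) 0) 2 16 12128 = true := by decide +kernel
theorem v380 : loop2 (fun i => Nat.beq (Z i) 0) 2 16 12160 = true := by decide +kernel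
theorem v381 : loop2 (fun i => Nat.beq (Z i) 0) 2 16 12192 = true := by decide +kernel
theorem v382 : loop2 (fun i => Nat.beq (Z i) 0) 2 16 12224 = true := by decide +kernel
theorem v383 : loop2 (fun i => Nat.beq (Z i) 0) 2 16 12256 = true := by decide +kernel
theorem v384 : loop2 (fun i => Nat.beq (Z i) 0) 2 16 12288 = true := by decide +kernel
theorem v385 : loop2 (fun i => Nat.beq (Z i) 0) 2 16 12320 = true := by decide +kernel
theorem v386 : loop2 (fun i => Nat.beq (Z i) 0) 2 16 12352 = true := by decide +kernel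
theorem v387 : loop2 (fun i => Nat.beq (Z i) 0) 2 16 12384 = true := by decide +kernel
theorem v388 : loop2 (fun i => Nat.beq (Z i) 0) 2 16 12416 = true := by decide +kernel
theorem v389 : loop2 (fun i => Nat.beq (Z i) 0) 2 16 12448 = true := by decide +kernel
theorem v390 : loop2 (fun i => Nat.beq (Z i) 0) 2 16 12480 = true := by decide +kernel
theorem v391 : loop2 (fun i => Nat.beq (Z i) 0) 2 16 12512 = true := by decide +kernel
theorem v392 : loop2 (fun i => Nat.beq (Z i) 0) 2 16 12544 = true := by decide +kernel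
theorem v393 : loop2 (fun i => Nat.beq (Z i) 0) 2 16 12576 = true := by decide +kernel
theorem v394 : loop2 (fun i => Nat.beq (Z i) 0) 2 16 12608 = true := by decide +kernel
theorem v395 : loop2 (fun i => Nat.beq (Z i) 0) 2 16 12640 = true := by decide +kernel
theorem v396 : loop2 (fun i => Nat.beq (Z i) 0) 2 16 12672 = true := by decide +kernel
theorem v397 : loop2 (fun i => Nat.beq (Z i) 0) 2 16 12704 = true := by decide +kernel
theorem v398 : loop2 (fun i => Nat.beq (Z i) 0) 2 16 12736 = true := by decide +kernel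
theorem v399 : loop2 (fun i => Nat.beq (Z i) 0) 2 16 12768 = true := by decide +kernel
theorem v400 : loop2 (fun i => Nat.beq (Z i) 0) 2 16 12800 = true := by decide +kernel
theorem v401 : loop2 (fun i => Nat.beq (Z i) 0) 2 16 12832 = true := by decide +kernel
theorem v402 : loop2 (fun i => Nat.beq (Z i) 0) 2 16 12864 = true := by decide +kernel
theorem v403 : loop2 (fun i => Nat.beq (Z i) 0) 2 16 12896 = true := by decide +kernel
theorem v404 : loop2 (fun i => Nat.beq (Z i) 0) 2 16 12928 = true := by decide +kernel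
theorem v405 : loop2 (fun i => Nat.beq (Z i) 0) 2 16 12960 = true := by decide +kernel
theorem v406 : loop2 (fun i => Nat.beq (Z i) 0) 2 16 12992 = true := by decide +kernel
theorem v407 : loop2 (fun i => Nat.beq (Z i) 0) 2 16 13024 = true := by decide +kernel
theorem v408 : loop2 (fun i => Nat.beq (Z i) 0) 2 16 13056 = true := by decide +kernel
theorem v409 : loop2 (fun i => Nat.beq (Z i) 0) 2 16 13088 = true := by decide +kernel
theorem v410 : loop2 (fun i => Nat.beq (Z i) 0) 2 16 13120 = true := by decide +kernel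
theorem v411 : loop2 (fun i => Nat.beq (Z i) 0) 2 16 13152 = true := by decide +kernel
theorem v412 : loop2 (fun i => Nat.beq (Z i) 0) 2 16 13184 = true := by decide +kernel
theorem v413 : loop2 (fun i => Nat.beq (Z i) 0) 2 16 13216 = true := by decide +kernel
theorem v414 : loop2 (fun i => Nat.beq (Z i) 0) 2 16 13248 = true := by decide +kernel
theorem v415 : loop2 (fun i => Nat.beq (Z i) 0) 2 16 13280 = true := by decide +kernel
theorem v416 : loop2 (fun i => Nat.beq (Z i) 0) 2 16 13312 = true := by decide +kernel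
theorem v417 : loop2 (fun i => Nat.beq (Z i) 0) 2 16 13344 = true := by decide +kernel
theorem v418 : loop2 (fun i => Nat.beq (Z i) 0) 2 16 13376 = true := by decide +kernel
theorem v419 : loop2 (fun i => Nat.beq (Z i) 0) 2 16 13408 = true := by decide +kernel
theorem v420 : loop2 (fun i => Nat.beq (Z i) 0) 2 16 13440 = true := by decide +kernel
theorem v421 : loop2 (fun i => Nat.beq (Z i) 0) 2 16 13472 = true := by decide +kernel
theorem v422 : loop2 (fun i => Nat.beq (Z i) 0) 2 16 13504 = true := by decide +kernel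
theorem v423 : loop2 (fun i => Nat.beq (Z i) 0) 2 16 13536 = true := by decide +kernel
theorem v424 : loop2 (fun i => Nat.beq (Z i) 0) 2 16 13568 = true := by decide +kernel
theorem v425 : loop2 (fun i => Nat.beq (Z i) 0) 2 16 13600 = true := by decide +kernel
theorem v426 : loop2 (fun i => Nat.beq (Z i) 0) 2 16 13632 = true := by decide +kernel
theorem v427 : loop2 (fun i => Nat.beq (Z i) 0) 2 16 13664 = true := by decide +kernel
theorem v428 : loop2 (fun i => Nat.beq (Z i) 0) 2 16 13696 = true := by decide +kernel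
theorem v429 : loop2 (fun i => Nat.beq (Z i) 0) 2 16 13728 = true := by decide +kernel
theorem v430 : loop2 (fun i => Nat.beq (Z i) 0) 2 16 13760 = true := by decide +kernel
theorem v431 : loop2 (fun i => Nat.beq (Z i) 0) 2 16 13792 = true := by decide +kernel
theorem v432 : loop2 (fun i => Nat.beq (Z i) 0) 2 16 13824 = true := by decide +kernel
theorem v433 : loop2 (fun i => Nat.beq (Z i) 0) 2 16 13856 = true := by decide +kernel
theorem v434 : loop2 (fun i => Nat.beq (Z i) 0) 2 16 13888 = true := by decide +kernel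
theorem v435 : loop2 (fun i => Nat.beq (Z i) 0) 2 16 13920 = true := by decide +kernel
theorem v436 : loop2 (fun i => Nat.beq (Z i) 0) 2 16 13952 = true := by decide +kernel
theorem v437 : loop2 (fun i => Nat.beq (Z i) 0) 2 16 13984 = true := by decide +kernel
theorem v438 : loop2 (fun i => Nat.beq (Z i) 0) 2 16 14016 = true := by decide +kernel
theorem v439 : loop2 (fun i => Nat.beq (Z i) 0) 2 16 14048 = true := by decide +kernel
theorem v440 : loop2 (fun i => Nat.beq (Z i) 0) 2 16 14080 = true := by decide +kernel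
theorem v441 : loop2 (fun i => Nat.beq (Z i) 0) 2 16 14112 = true := by decide +kernel
theorem v442 : loop2 (fun i => Nat.beq (Z i) 0) 2 16 14144 = true := by decide +kernel
theorem v443 : loop2 (fun i => Nat.beq (Z i) 0) 2 16 14176 = true := by decide +kernel
theorem v444 : loop2 (fun i => Nat.beq (Z i) 0) 2 16 14208 = true := by decide +kernel
theorem v445 : loop2 (fun i => Nat.beq (Z i) 0) 2 16 14240 = true := by decide +kernel
theorem v446 : loop2 (fun i => Nat.beq (Z i) 0) 2 16 14272 = true := by decide +kernel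
theorem v447 : loop2 (fun i => Nat.beq (Z i) 0) 2 16 14304 = true := by decide +kernel
theorem v448 : loop2 (fun i => Nat.beq (Z i) 0) 2 16 14336 = true := by decide +kernel
theorem v449 : loop2 (fun i => Nat.beq (Z i) 0) 2 16 14368 = true := by decide +kernel
theorem v450 : loop2 (fun i => Nat.beq (Z i) 0) 2 16 14400 = true := by decide +kernel
theorem v451 : loop2 (fun i => Nat.beq (Z i) 0) 2 16 14432 = true := by decide +kernel
theorem v452 : loop2 (fun i => Nat.beq (Z i) 0) 2 16 14464 = true := by decide +kernel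
theorem v453 : loop2 (fun i => Nat.beq (Z i) 0) 2 16 14496 = true := by decide +kernel
theorem v454 : loop2 (fun i => Nat.beq (Z i) 0) 2 16 14528 = true := by decide +kernel
theorem v455 : loop2 (fun i => Nat.beq (Z i) 0) 2 16 14560 = true := by decide +kernel
theorem v456 : loop2 (fun i => Nat.beq (Z i) 0) 2 16 14592 = true := by decide +kernel
theorem v457 : loop2 (fun i => Nat.beq (Z i) 0) 2 16 14624 = true := by decide +kernel
theorem v458 : loop2 (fun i => Nat.beq (Z i) 0) 2 16 14656 = true := by decide +kernel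
theorem v459 : loop2 (fun i => Nat.beq (Z i) 0) 2 16 14688 = true := by decide +kernel
theorem v460 : loop2 (fun i => Nat.beq (Z i) 0) 2 16 14720 = true := by decide +kernel
theorem v461 : loop2 (fun i => Nat.beq (Z i) 0) 2 16 14752 = true := by decide +kernel
theorem v462 : loop2 (fun i => Nat.beq (Z i) 0) 2 16 14784 = true := by decide +kernel
theorem v463 : loop2 (fun i => Nat.beq (Z i) 0) 2 16 14816 = true := by decide +kernel
theorem v464 : loop2 (fun i => Nat.beq (Z i) 0) 2 16 14848 = true := by decide +kernel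
theorem v465 : loop2 (fun i => Nat.beq (Z i) 0) 2 16 14880 = true := by decide +kernel
theorem v466 : loop2 (fun i => Nat.beq (Z i) 0) 2 16 14912 = true := by decide +kernel
theorem v467 : loop2 (fun i => Nat.beq (Z i) 0) 2 16 14944 = true := by decide +kernel
theorem v468 : loop2 (fun i => Nat.beq (Z i) 0) 2 16 14976 = true := by decide +kernel
theorem v469 : loop2 (fun i => Nat.beq (Z i) 0) 2 16 15008 = true := by decide +kernel
theorem v470 : loop2 (fun i => Nat.beq (Z i) 0) 2 16 15040 = true := by decide +kernel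
theorem v471 : loop2 (fun i => Nat.beq (Z i) 0) 2 16 15072 = true := by decide +kernel
theorem v472 : loop2 (fun i => Nat.beq (Z i) 0) 2 16 15104 = true := by decide +kernel
theorem v473 : loop2 (fun i => Nat.beq (Z i) 0) 2 16 15136 = true := by decide +kernel
theorem v474 : loop2 (fun i => Nat.beq (Z i) 0) 2 16 15168 = true := by decide +kernel
theorem v475 : loop2 (fun i => Nat.beq (Z i) 0) 2 16 15200 = true := by decide +kernel
theorem v476 : loop2 (fun i => Nat.beq (Z i) 0) 2 16 15232 = true := by decide +kernel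
theorem v477 : loop2 (fun i => Nat.beq (Z i) 0) 2 16 15264 = true := by decide +kernel
theorem v478 : loop2 (fun i => Nat.beq (Z i) 0) 2 16 15296 = true := by decide +kernel
theorem v479 : loop2 (fun i => Nat.beq (Z i) 0) 2 16 15328 = true := by decide +kernel
theorem v480 : loop2 (fun i => Nat.beq (Z i) 0) 2 16 15360 = true := by decide +kernel
theorem v481 : loop2 (fun i => Nat.beq (Z i) 0) 2 16 15392 = true := by decide +kernel
theorem v482 : loop2 (fun i => Nat.beq (Z i) 0) 2 16 15424 = true := by decide +kernel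
theorem v483 : loop2 (fun i => Nat.beq (Z i) 0) 2 16 15456 = true := by decide +kernel
theorem v484 : loop2 (fun i => Nat.beq (Z i) 0) 2 16 15488 = true := by decide +kernel
theorem v485 : loop2 (fun i => Nat.beq (Z i) 0) 2 16 15520 = true := by decide +kernel
theorem v486 : loop2 (fun i => Nat.beq (Z i) 0) 2 16 15552 = true := by decide +kernel
theorem v487 : loop2 (fun i => Nat.beq (Z i) 0) 2 16 15584 = true := by decide +kernel
theorem v488 : loop2 (fun i => Nat.beq (Z i) 0) 2 16 15616 = true := by decide +kernel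
theorem v489 : loop2 (fun i => Nat.beq (Z i) 0) 2 16 15648 = true := by decide +kernel
theorem v490 : loop2 (fun i => Nat.beq (Z i) 0) 2 16 15680 = true := by decide +kernel
theorem v491 : loop2 (fun i => Nat.beq (Z i) 0) 2 16 15712 = true := by decide +kernel
theorem v492 : loop2 (fun i => Nat.beq (Z i) 0) 2 16 15744 = true := by decide +kernel
theorem v493 : loop2 (fun i => Nat.beq (Z i) 0) 2 16 15776 = true := by decide +kernel
theorem v494 : loop2 (fun i => Nat.beq (Z i) 0) 2 16 15808 = true := by decide +kernel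
theorem z3 : RngF (fun _ z => z = 0) Z 11872 15840 := (RngF.app (RngF.app (RngF.app (RngF.app (RngF.app (RngF.app (rngZ_of_loop 11904 v371 rfl) (RngF.app (rngZ_of_loop 11936 v372 rfl) (rngZ_of_loop 11968 v373 rfl))) (RngF.app (RngF.app (rngZ_of_loop 12000 v374 rfl) (rngZ_of_loop 12032 v375 rfl)) (RngF.app (rngZ_of_loop 12064 v376 rfl) (rngZ_of_loop 12096 v377 rfl)))) (RngF.app (RngF.app (RngF.app (rngZ_of_loop 12128 v378 rfl) (rngZ_of_loop 12160 v379 rfl)) (RngF.app (rngZ_of_loop 12192 v380 rfl) (rngZ_of_loop 12224 v381 rfl))) (RngF.app (RngF.app (rngZ_of_loop 12256 v382 rfl) (rngZ_of_loop 12288 v383 rfl)) (RngF.app (rngZ_of_loop 12320 v384 rfl) (rngZ_of_loop 12352 v385 rfl))))) (RngF.app (RngF.app (RngF.app (RngF.app (rngZ_of_loop 12384 v386 rfl) (rngZ_of_loop 12416 v387 rfl)) (RngF.app (rngZ_of_loop 12448 v388 rfl) (rngZ_of_loop 12480 v389 rfl))) (RngF.app (RngF.app (rngZ_of_loop 12512 v390 rfl) (rngZ_of_loop 12544 v391 rfl)) (RngF.app (rngZ_of_loop 12576 v392 rfl) (rngZ_of_loop 12608 v393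 rfl)))) (RngF.app (RngF.app (RngF.app (rngZ_of_loop 12640 v394 rfl) (rngZ_of_loop 12672 v395 rfl)) (RngF.app (rngZ_of_loop 12704 v396 rfl) (rngZ_of_loop 12736 v397 rfl))) (RngF.app (RngF.app (rngZ_of_loop 12768 v398 rfl) (rngZ_of_loop 12800 v399 rfl)) (RngF.app (rngZ_of_loop 12832 v400 rfl) (rngZ_of_loop 12864 v401 rfl)))))) (RngF.app (RngF.app (RngF.app (RngF.app (rngZ_of_loop 12896 v402 rfl) (RngF.app (rngZ_of_loop 12928 v403 rfl) (rngZ_of_loop 12960 v404 rfl))) (RngF.app (RngF.app (rngZ_of_loop 12992 v405 rfl) (rngZ_of_loop 13024 v406 rfl)) (RngF.app (rngZ_of_loop 13056 v407 rfl) (rngZ_of_loop 13088 v408 rfl)))) (RngF.app (RngF.app (RngF.app (rngZ_of_loop 13120 v409 rfl) (rngZ_of_loop 13152 v410 rfl)) (RngF.app (rngZ_of_loop 13184 v411 rfl) (rngZ_of_loop 13216 v412 rfl))) (RngF.app (RngF.app (rngZ_of_loop 13248 v413 rfl) (rngZ_of_loop 13280 v414 rfl)) (RngF.app (rngZ_of_loop 13312 v415 rfl) (rngZ_of_loop 13344 v416 rfl))))) (RngF.app (RngF.app (RngF.app (RngF.app (rngZ_of_loop 13376 v417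 rfl) (rngZ_of_loop 13408 v418 rfl)) (RngF.app (rngZ_of_loop 13440 v419 rfl) (rngZ_of_loop 13472 v420 rfl))) (RngF.app (RngF.app (rngZ_of_loop 13504 v421 rfl) (rngZ_of_loop 13536 v422 rfl)) (RngF.app (rngZ_of_loop 13568 v423 rfl) (rngZ_of_loop 13600 v424 rfl)))) (RngF.app (RngF.app (RngF.app (rngZ_of_loop 13632 v425 rfl) (rngZ_of_loop 13664 v426 rfl)) (RngF.app (rngZ_of_loop 13696 v427 rfl) (rngZ_of_loop 13728 v428 rfl))) (RngF.app (RngF.app (rngZ_of_loop 13760 v429 rfl) (rngZ_of_loop 13792 v430 rfl)) (RngF.app (rngZ_of_loop 13824 v431 rfl) (rngZ_of_loop 13856 v432 rfl))))))) (RngF.app (RngF.app (RngF.app (RngF.app (RngF.app (rngZ_of_loop 13888 v433 rfl) (RngF.app (rngZ_of_loop 13920 v434 rfl) (rngZ_of_loop 13952 v435 rfl))) (RngF.app (RngF.app (rngZ_of_loop 13984 v436 rfl) (rngZ_of_loop 14016 v437 rfl)) (RngF.app (rngZ_of_loop 14048 v438 rfl) (rngZ_of_loop 14080 v439 rfl)))) (RngF.app (RngF.app (RngF.app (rngZ_of_loop 14112 v440 rfl) (rngZ_of_loop 14144 v441 rfl)) (RngF.app (rngZ_of_loop 14176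 v442 rfl) (rngZ_of_loop 14208 v443 rfl))) (RngF.app (RngF.app (rngZ_of_loop 14240 v444 rfl) (rngZ_of_loop 14272 v445 rfl)) (RngF.app (rngZ_of_loop 14304 v446 rfl) (rngZ_of_loop 14336 v447 rfl))))) (RngF.app (RngF.app (RngF.app (RngF.app (rngZ_of_loop 14368 v448 rfl) (rngZ_of_loop 14400 v449 rfl)) (RngF.app (rngZ_of_loop 14432 v450 rfl) (rngZ_of_loop 14464 v451 rfl))) (RngF.app (RngF.app (rngZ_of_loop 14496 v452 rfl) (rngZ_of_loop 14528 v453 rfl)) (RngF.app (rngZ_of_loop 14560 v454 rfl) (rngZ_of_loop 14592 v455 rfl)))) (RngF.app (RngF.app (RngF.app (rngZ_of_loop 14624 v456 rfl) (rngZ_of_loop 14656 v457 rfl)) (RngF.app (rngZ_of_loop 14688 v458 rfl) (rngZ_of_loop 14720 v459 rfl))) (RngF.app (RngF.app (rngZ_of_loop 14752 v460 rfl) (rngZ_of_loop 14784 v461 rfl)) (RngF.app (rngZ_of_loop 14816 v462 rfl) (rngZ_of_loop 14848 v463 rfl)))))) (RngF.app (RngF.app (RngF.app (RngF.app (rngZ_of_loop 14880 v464 rfl) (RngF.app (rngZ_of_loop 14912 v465 rfl) (rngZ_of_loop 14944 v466 rfl))) (RngF.app (RngF.app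 (rngZ_of_loop 14976 v467 rfl) (rngZ_of_loop 15008 v468 rfl)) (RngF.app (rngZ_of_loop 15040 v469 rfl) (rngZ_of_loop 15072 v470 rfl)))) (RngF.app (RngF.app (RngF.app (rngZ_of_loop 15104 v471 rfl) (rngZ_of_loop 15136 v472 rfl)) (RngF.app (rngZ_of_loop 15168 v473 rfl) (rngZ_of_loop 15200 v474 rfl))) (RngF.app (RngF.app (rngZ_of_loop 15232 v475 rfl) (rngZ_of_loop 15264 v476 rfl)) (RngF.app (rngZ_of_loop 15296 v477 rfl) (rngZ_of_loop 15328 v478 rfl))))) (RngF.app (RngF.app (RngF.app (RngF.app (rngZ_of_loop 15360 v479 rfl) (rngZ_of_loop 15392 v480 rfl)) (RngF.app (rngZ_of_loop 15424 v481 rfl) (rngZ_of_loop 15456 v482 rfl))) (RngF.app (RngF.app (rngZ_of_loop 15488 v483 rfl) (rngZ_of_loop 15520 v484 rfl)) (RngF.app (rngZ_of_loop 15552 v485 rfl) (rngZ_of_loop 15584 v486 rfl)))) (RngF.app (RngF.app (RngF.app (rngZ_of_loop 15616 v487 rfl) (rngZ_of_loop 15648 v488 rfl)) (RngF.app (rngZ_of_loop 15680 v489 rfl) (rngZ_of_loop 15712 v490 rfl))) (RngF.app (RngF.app (rngZ_of_loop 15744 v491 rfl) (rngZ_of_loop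 15776 v492 rfl)) (RngF.app (rngZ_of_loop 15808 v493 rfl) (rngZ_of_loop 15840 v494 rfl))))))))

end H34.Fi23a
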