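import Cfsg.Agent.Lib.H34.Fi23a.PData

set_option autoImplicit false
set_option maxRecDepth 100000
set_option Elab.async false

noncomputable section

namespace H34.Fi23a

open H34.T2

theorem v618 : loop2 (fun i => Nat.beq (Z i) 0) 2 16 19776 = true := by decide +kernel
theorem v619 : loop2 (fun i => Nat.beq (Z i) 0) 2 16 19808 = true := by decide +kernel
theorem v620 : loop2 (fun i => Nat.beq (Z i) 0) 2 16 19840 = true := by decide +kernel
theorem v621 : loop2 (fun i => Nat.beq (Z i) 0) 2 16 19872 = true := by decide +kernel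
theorem v622 : loop2 (fun i => Nat.beq (Z i) 0) 2 16 19904 = true := by decide +kernel
theorem v623 : loop2 (fun i => Nat.beq (Z i) 0) 2 16 19936 = true := by decide +kernel
theorem v624 : loop2 (fun i => Nat.beq (Z i) 0) 2 16 19968 = true := by decide +kernel
theorem v625 : loop2 (fun i => Nat.beq (Z i) 0) 2 16 20000 = true := by decide +kernel
theorem v626 : loop2 (fun i => Nat.beq (Z i) 0) 2 16 20032 = true := by decide +kernel
theorem v627 : loop2 (fun i => Nat.beq (Z i) 0) 2 16 20064 = true := by decide +kernel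
theorem v628 : loop2 (fun i => Nat.beq (Z i) 0) 2 16 20096 = true := by decide +kernel
theorem v629 : loop2 (fun i => Nat.beq (Z i) 0) 2 16 20128 = true := by decide +kernel
theorem v630 : loop2 (fun i => Nat.beq (Z i) 0) 2 16 20160 = true := by decide +kernel
theorem v631 : loop2 (fun i => Nat.beq (Z i) 0) 2 16 20192 = true := by decide +kernel
theorem v632 : loop2 (fun i => Nat.beq (Z i) 0) 2 16 20224 = true := by decide +kernel
theorem v633 : loop2 (fun i => Nat.beq (Z i) 0) 2 16 20256 = true := by decide +kernel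
theorem v634 : loop2 (fun i => Nat.beq (Z i) 0) 2 16 20288 = true := by decide +kernel
theorem v635 : loop2 (fun i => Nat.beq (Z i) 0) 2 16 20320 = true := by decide +kernel
theorem v636 : loop2 (fun i => Nat.beq (Z i) 0) 2 16 20352 = true := by decide +kernel
theorem v637 : loop2 (fun i => Nat.beq (Z i) 0) 2 16 20384 = true := by decide +kernel
theorem v638 : loop2 (fun i => Nat.beq (Z i) 0) 2 16 20416 = true := by decide +kernel
theorem v639 : loop2 (fun i => Nat.beq (Z i) 0) 2 16 20448 = true := by decide +kernel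
theorem v640 : loop2 (fun i => Nat.beq (Z i) 0) 2 16 20480 = true := by decide +kernel
theorem v641 : loop2 (fun i => Nat.beq (Z i) 0) 2 16 20512 = true := by decide +kernel
theorem v642 : loop2 (fun i => Nat.beq (Z i) 0) 2 16 20544 = true := by decide +kernel
theorem v643 : loop2 (fun i => Nat.beq (Z i) 0) 2 16 20576 = true := by decide +kernel
theorem v644 : loop2 (fun i => Nat.beq (Z i) 0) 2 16 20608 = true := by decide +kernel
theorem v645 : loop2 (fun i => Nat.beq (Z i) 0) 2 16 20640 = true := by decide +kernel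
theorem v646 : loop2 (fun i => Nat.beq (Z i) 0) 2 16 20672 = true := by decide +kernel
theorem v647 : loop2 (fun i => Nat.beq (Z i) 0) 2 16 20704 = true := by decide +kernel
theorem v648 : loop2 (fun i => Nat.beq (Z i) 0) 2 16 20736 = true := by decide +kernel
theorem v649 : loop2 (fun i => Nat.beq (Z i) 0) 2 16 20768 = true := by decide +kernel
theorem v650 : loop2 (fun i => Nat.beq (Z i) 0) 2 16 20800 = true := by decide +kernel
theorem v651 : loop2 (fun i => Nat.beq (Z i) 0) 2 16 20832 = true := by decide +kernel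
theorem v652 : loop2 (fun i => Nat.beq (Z i) 0) 2 16 20864 = true := by decide +kernel
theorem v653 : loop2 (fun i => Nat.beq (Z i) 0) 2 16 20896 = true := by decide +kernel
theorem v654 : loop2 (fun i => Nat.beq (Z i) 0) 2 16 20928 = true := by decide +kernel
theorem v655 : loop2 (fun i => Nat.beq (Z i) 0) 2 16 20960 = true := by decide +kernel
theorem v656 : loop2 (fun i => Nat.beq (Z i) 0) 2 16 20992 = true := by decide +kernel
theorem v657 : loop2 (fun i => Nat.beq (Z i) 0) 2 16 21024 = true := by decide +kernel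
theorem v658 : loop2 (fun i => Nat.beq (Z i) 0) 2 16 21056 = true := by decide +kernel
theorem v659 : loop2 (fun i => Nat.beq (Z i) 0) 2 16 21088 = true := by decide +kernel
theorem v660 : loop2 (fun i => Nat.beq (Z i) 0) 2 16 21120 = true := by decide +kernel
theorem v661 : loop2 (fun i => Nat.beq (Z i) 0) 2 16 21152 = true := by decide +kernel
theorem v662 : loop2 (fun i => Nat.beq (Z i) 0) 2 16 21184 = true := by decide +kernel
theorem v663 : loop2 (fun i => Nat.beq (Z i) 0) 2 16 21216 = true := by decide +kernel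
theorem v664 : loop2 (fun i => Nat.beq (Z i) 0) 2 16 21248 = true := by decide +kernel
theorem v665 : loop2 (fun i => Nat.beq (Z i) 0) 2 16 21280 = true := by decide +kernel
theorem v666 : loop2 (fun i => Nat.beq (Z i) 0) 2 16 21312 = true := by decide +kernel
theorem v667 : loop2 (fun i => Nat.beq (Z i) 0) 2 16 21344 = true := by decide +kernel
theorem v668 : loop2 (fun i => Nat.beq (Z i) 0) 2 16 21376 = true := by decide +kernel
theorem v669 : loop2 (fun i => Nat.beq (Z i) 0) 2 16 21408 = true := by decide +kernel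
theorem v670 : loop2 (fun i => Nat.beq (Z i) 0) 2 16 21440 = true := by decide +kernel
theorem v671 : loop2 (fun i => Nat.beq (Z i) 0) 2 16 21472 = true := by decide +kernel
theorem v672 : loop2 (fun i => Nat.beq (Z i) 0) 2 16 21504 = true := by decide +kernel
theorem v673 : loop2 (fun i => Nat.beq (Z i) 0) 2 16 21536 = true := by decide +kernel
theorem v674 : loop2 (fun i => Nat.beq (Z i) 0) 2 16 21568 = true := by decide +kernel
theorem v675 : loop2 (fun i => Nat.beq (Z i) 0) 2 16 21600 = true := by decide +kernel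
theorem v676 : loop2 (fun i => Nat.beq (Z i) 0) 2 16 21632 = true := by decide +kernel
theorem v677 : loop2 (fun i => Nat.beq (Z i) 0) 2 16 21664 = true := by decide +kernel
theorem v678 : loop2 (fun i => Nat.beq (Z i) 0) 2 16 21696 = true := by decide +kernel
theorem v679 : loop2 (fun i => Nat.beq (Z i) 0) 2 16 21728 = true := by decide +kernel
theorem v680 : loop2 (fun i => Nat.beq (Z i) 0) 2 16 21760 = true := by decide +kernel
theorem v681 : loop2 (fun i => Nat.beq (Z i) 0) 2 16 21792 = true := by decide +kernel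
theorem v682 : loop2 (fun i => Nat.beq (Z i) 0) 2 16 21824 = true := by decide +kernel
theorem v683 : loop2 (fun i => Nat.beq (Z i) 0) 2 16 21856 = true := by decide +kernel
theorem v684 : loop2 (fun i => Nat.beq (Z i) 0) 2 16 21888 = true := by decide +kernel
theorem v685 : loop2 (fun i => Nat.beq (Z i) 0) 2 16 21920 = true := by decide +kernel
theorem v686 : loop2 (fun i => Nat.beq (Z i) 0) 2 16 21952 = true := by decide +kernel
theorem v687 : loop2 (fun i => Nat.beq (Z i) 0) 2 16 21984 = true := by decide +kernel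
theorem v688 : loop2 (fun i => Nat.beq (Z i) 0) 2 16 22016 = true := by decide +kernel
theorem v689 : loop2 (fun i => Nat.beq (Z i) 0) 2 16 22048 = true := by decide +kernel
theorem v690 : loop2 (fun i => Nat.beq (Z i) 0) 2 16 22080 = true := by decide +kernel
theorem v691 : loop2 (fun i => Nat.beq (Z i) 0) 2 16 22112 = true := by decide +kernel
theorem v692 : loop2 (fun i => Nat.beq (Z i) 0) 2 16 22144 = true := by decide +kernel
theorem v693 : loop2 (fun i => Nat.beq (Z i) 0) 2 16 22176 = true := by decide +kernel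
theorem v694 : loop2 (fun i => Nat.beq (Z i) 0) 2 16 22208 = true := by decide +kernel
theorem v695 : loop2 (fun i => Nat.beq (Z i) 0) 2 16 22240 = true := by decide +kernel
theorem v696 : loop2 (fun i => Nat.beq (Z i) 0) 2 16 22272 = true := by decide +kernel
theorem v697 : loop2 (fun i => Nat.beq (Z i) 0) 2 16 22304 = true := by decide +kernel
theorem v698 : loop2 (fun i => Nat.beq (Z i) 0) 2 16 22336 = true := by decide +kernel
theorem v699 : loop2 (fun i => Nat.beq (Z i) 0) 2 16 22368 = true := by decide +kernel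
theorem v700 : loop2 (fun i => Nat.beq (Z i) 0) 2 16 22400 = true := by decide +kernel
theorem v701 : loop2 (fun i => Nat.beq (Z i) 0) 2 16 22432 = true := by decide +kernel
theorem v702 : loop2 (fun i => Nat.beq (Z i) 0) 2 16 22464 = true := by decide +kernel
theorem v703 : loop2 (fun i => Nat.beq (Z i) 0) 2 16 22496 = true := by decide +kernel
theorem v704 : loop2 (fun i => Nat.beq (Z i) 0) 2 16 22528 = true := by decide +kernel
theorem v705 : loop2 (fun i => Nat.beq (Z i) 0) 2 16 22560 = true := by decide +kernel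
theorem v706 : loop2 (fun i => Nat.beq (Z i) 0) 2 16 22592 = true := by decide +kernel
theorem v707 : loop2 (fun i => Nat.beq (Z i) 0) 2 16 22624 = true := by decide +kernel
theorem v708 : loop2 (fun i => Nat.beq (Z i) 0) 2 16 22656 = true := by decide +kernel
theorem v709 : loop2 (fun i => Nat.beq (Z i) 0) 2 16 22688 = true := by decide +kernel
theorem v710 : loop2 (fun i => Nat.beq (Z i) 0) 2 16 22720 = true := by decide +kernel
theorem v711 : loop2 (fun i => Nat.beq (Z i) 0) 2 16 22752 = true := by decide +kernel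
theorem v712 : loop2 (fun i => Nat.beq (Z i) 0) 2 16 22784 = true := by decide +kernel
theorem v713 : loop2 (fun i => Nat.beq (Z i) 0) 2 16 22816 = true := by decide +kernel
theorem v714 : loop2 (fun i => Nat.beq (Z i) 0) 2 16 22848 = true := by decide +kernel
theorem v715 : loop2 (fun i => Nat.beq (Z i) 0) 2 16 22880 = true := by decide +kernel
theorem v716 : loop2 (fun i => Nat.beq (Z i) 0) 2 16 22912 = true := by decide +kernel
theorem v717 : loop2 (fun i => Nat.beq (Z i) 0) 2 16 22944 = true := by decide +kernel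
theorem v718 : loop2 (fun i => Nat.beq (Z i) 0) 2 16 22976 = true := by decide +kernel
theorem v719 : loop2 (fun i => Nat.beq (Z i) 0) 2 16 23008 = true := by decide +kernel
theorem v720 : loop2 (fun i => Nat.beq (Z i) 0) 2 16 23040 = true := by decide +kernel
theorem v721 : loop2 (fun i => Nat.beq (Z i) 0) 2 16 23072 = true := by decide +kernel
theorem v722 : loop2 (fun i => Nat.beq (Z i) 0) 2 16 23104 = true := by decide +kernel
theorem v723 : loop2 (fun i => Nat.beq (Z i) 0) 2 16 23136 = true := by decide +kernel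
theorem v724 : loop2 (fun i => Nat.beq (Z i) 0) 2 16 23168 = true := by decide +kernel
theorem v725 : loop2 (fun i => Nat.beq (Z i) 0) 2 16 23200 = true := by decide +kernel
theorem v726 : loop2 (fun i => Nat.beq (Z i) 0) 2 16 23232 = true := by decide +kernel
theorem v727 : loop2 (fun i => Nat.beq (Z i) 0) 2 16 23264 = true := by decide +kernel
theorem v728 : loop2 (fun i => Nat.beq (Z i) 0) 2 16 23296 = true := by decide +kernel
theorem v729 : loop2 (fun i => Nat.beq (Z i) 0) 2 16 23328 = true := by decide +kernel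
theorem v730 : loop2 (fun i => Nat.beq (Z i) 0) 2 16 23360 = true := by decide +kernel
theorem v731 : loop2 (fun i => Nat.beq (Z i) 0) 2 16 23392 = true := by decide +kernel
theorem v732 : loop2 (fun i => Nat.beq (Z i) 0) 2 16 23424 = true := by decide +kernel
theorem v733 : loop2 (fun i => Nat.beq (Z i) 0) 2 16 23456 = true := by decide +kernel
theorem v734 : loop2 (fun i => Nat.beq (Z i) 0) 2 16 23488 = true := by decide +kernel
theorem v735 : loop2 (fun i => Nat.beq (Z i) 0) 2 16 23520 = true := by decide +kernel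
theorem v736 : loop2 (fun i => Nat.beq (Z i) 0) 2 16 23552 = true := by decide +kernel
theorem v737 : loop2 (fun i => Nat.beq (Z i) 0) 2 16 23584 = true := by decide +kernel
theorem v738 : loop2 (fun i => Nat.beq (Z i) 0) 2 16 23616 = true := by decide +kernel
theorem v739 : loop2 (fun i => Nat.beq (Z i) 0) 2 16 23648 = true := by decide +kernel
theorem v740 : loop2 (fun i => Nat.beq (Z i) 0) 2 16 23680 = true := by decide +kernel
theorem v741 : loop2 (fun i => Nat.beq (Z i) 0) 2 16 23712 = true := by decide +kernel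
theorem z5 : RngF (fun _ z => z = 0) Z 19776 23744 := (RngF.app (RngF.app (RngF.app (RngF.app (RngF.app (RngF.app (rngZ_of_loop 19808 v618 rfl) (RngF.app (rngZ_of_loop 19840 v619 rfl) (rngZ_of_loop 19872 v620 rfl))) (RngF.app (RngF.app (rngZ_of_loop 19904 v621 rfl) (rngZ_of_loop 19936 v622 rfl)) (RngF.app (rngZ_of_loop 19968 v623 rfl) (rngZ_of_loop 20000 v624 rfl)))) (RngF.app (RngF.app (RngF.app (rngZ_of_loop 20032 v625 rfl) (rngZ_of_loop 20064 v626 rfl)) (RngF.app (rngZ_of_loop 20096 v627 rfl) (rngZ_of_loop 20128 v628 rfl))) (RngF.app (RngF.app (rngZ_of_loop 20160 v629 rfl) (rngZ_of_loop 20192 v630 rfl)) (RngF.app (rngZ_of_loop 20224 v631 rfl) (rngZ_of_loop 20256 v632 rfl))))) (RngF.app (RngF.app (RngF.app (RngF.app (rngZ_of_loop 20288 v633 rfl) (rngZ_of_loop 20320 v634 rfl)) (RngF.app (rngZ_of_loop 20352 v635 rfl) (rngZ_of_loop 20384 v636 rfl))) (RngF.app (RngF.app (rngZ_of_loop 20416 v637 rfl) (rngZ_of_loop 20448 v638 rfl)) (RngF.app (rngZ_of_loop 20480 v639 rfl) (rngZ_of_loop 20512 v640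 rfl)))) (RngF.app (RngF.app (RngF.app (rngZ_of_loop 20544 v641 rfl) (rngZ_of_loop 20576 v642 rfl)) (RngF.app (rngZ_of_loop 20608 v643 rfl) (rngZ_of_loop 20640 v644 rfl))) (RngF.app (RngF.app (rngZ_of_loop 20672 v645 rfl) (rngZ_of_loop 20704 v646 rfl)) (RngF.app (rngZ_of_loop 20736 v647 rfl) (rngZ_of_loop 20768 v648 rfl)))))) (RngF.app (RngF.app (RngF.app (RngF.app (rngZ_of_loop 20800 v649 rfl) (RngF.app (rngZ_of_loop 20832 v650 rfl) (rngZ_of_loop 20864 v651 rfl))) (RngF.app (RngF.app (rngZ_of_loop 20896 v652 rfl) (rngZ_of_loop 20928 v653 rfl)) (RngF.app (rngZ_of_loop 20960 v654 rfl) (rngZ_of_loop 20992 v655 rfl)))) (RngF.app (RngF.app (RngF.app (rngZ_of_loop 21024 v656 rfl) (rngZ_of_loop 21056 v657 rfl)) (RngF.app (rngZ_of_loop 21088 v658 rfl) (rngZ_of_loop 21120 v659 rfl))) (RngF.app (RngF.app (rngZ_of_loop 21152 v660 rfl) (rngZ_of_loop 21184 v661 rfl)) (RngF.app (rngZ_of_loop 21216 v662 rfl) (rngZ_of_loop 21248 v663 rfl))))) (RngF.app (RngF.app (RngF.app (RngF.app (rngZ_of_loop 21280 v664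 rfl) (rngZ_of_loop 21312 v665 rfl)) (RngF.app (rngZ_of_loop 21344 v666 rfl) (rngZ_of_loop 21376 v667 rfl))) (RngF.app (RngF.app (rngZ_of_loop 21408 v668 rfl) (rngZ_of_loop 21440 v669 rfl)) (RngF.app (rngZ_of_loop 21472 v670 rfl) (rngZ_of_loop 21504 v671 rfl)))) (RngF.app (RngF.app (RngF.app (rngZ_of_loop 21536 v672 rfl) (rngZ_of_loop 21568 v673 rfl)) (RngF.app (rngZ_of_loop 21600 v674 rfl) (rngZ_of_loop 21632 v675 rfl))) (RngF.app (RngF.app (rngZ_of_loop 21664 v676 rfl) (rngZ_of_loop 21696 v677 rfl)) (RngF.app (rngZ_of_loop 21728 v678 rfl) (rngZ_of_loop 21760 v679 rfl))))))) (RngF.app (RngF.app (RngF.app (RngF.app (RngF.app (rngZ_of_loop 21792 v680 rfl) (RngF.app (rngZ_of_loop 21824 v681 rfl) (rngZ_of_loop 21856 v682 rfl))) (RngF.app (RngF.app (rngZ_of_loop 21888 v683 rfl) (rngZ_of_loop 21920 v684 rfl)) (RngF.app (rngZ_of_loop 21952 v685 rfl) (rngZ_of_loop 21984 v686 rfl)))) (RngF.app (RngF.app (RngF.app (rngZ_of_loop 22016 v687 rfl) (rngZ_of_loop 22048 v688 rfl)) (RngF.app (rngZ_of_loop 22080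 v689 rfl) (rngZ_of_loop 22112 v690 rfl))) (RngF.app (RngF.app (rngZ_of_loop 22144 v691 rfl) (rngZ_of_loop 22176 v692 rfl)) (RngF.app (rngZ_of_loop 22208 v693 rfl) (rngZ_of_loop 22240 v694 rfl))))) (RngF.app (RngF.app (RngF.app (RngF.app (rngZ_of_loop 22272 v695 rfl) (rngZ_of_loop 22304 v696 rfl)) (RngF.app (rngZ_of_loop 22336 v697 rfl) (rngZ_of_loop 22368 v698 rfl))) (RngF.app (RngF.app (rngZ_of_loop 22400 v699 rfl) (rngZ_of_loop 22432 v700 rfl)) (RngF.app (rngZ_of_loop 22464 v701 rfl) (rngZ_of_loop 22496 v702 rfl)))) (RngF.app (RngF.app (RngF.app (rngZ_of_loop 22528 v703 rfl) (rngZ_of_loop 22560 v704 rfl)) (RngF.app (rngZ_of_loop 22592 v705 rfl) (rngZ_of_loop 22624 v706 rfl))) (RngF.app (RngF.app (rngZ_of_loop 22656 v707 rfl) (rngZ_of_loop 22688 v708 rfl)) (RngF.app (rngZ_of_loop 22720 v709 rfl) (rngZ_of_loop 22752 v710 rfl)))))) (RngF.app (RngF.app (RngF.app (RngF.app (rngZ_of_loop 22784 v711 rfl) (RngF.app (rngZ_of_loop 22816 v712 rfl) (rngZ_of_loop 22848 v713 rfl))) (RngF.app (RngF.app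 (rngZ_of_loop 22880 v714 rfl) (rngZ_of_loop 22912 v715 rfl)) (RngF.app (rngZ_of_loop 22944 v716 rfl) (rngZ_of_loop 22976 v717 rfl)))) (RngF.app (RngF.app (RngF.app (rngZ_of_loop 23008 v718 rfl) (rngZ_of_loop 23040 v719 rfl)) (RngF.app (rngZ_of_loop 23072 v720 rfl) (rngZ_of_loop 23104 v721 rfl))) (RngF.app (RngF.app (rngZ_of_loop 23136 v722 rfl) (rngZ_of_loop 23168 v723 rfl)) (RngF.app (rngZ_of_loop 23200 v724 rfl) (rngZ_of_loop 23232 v725 rfl))))) (RngF.app (RngF.app (RngF.app (RngF.app (rngZ_of_loop 23264 v726 rfl) (rngZ_of_loop 23296 v727 rfl)) (RngF.app (rngZ_of_loop 23328 v728 rfl) (rngZ_of_loop 23360 v729 rfl))) (RngF.app (RngF.app (rngZ_of_loop 23392 v730 rfl) (rngZ_of_loop 23424 v731 rfl)) (RngF.app (rngZ_of_loop 23456 v732 rfl) (rngZ_of_loop 23488 v733 rfl)))) (RngF.app (RngF.app (RngF.app (rngZ_of_loop 23520 v734 rfl) (rngZ_of_loop 23552 v735 rfl)) (RngF.app (rngZ_of_loop 23584 v736 rfl) (rngZ_of_loop 23616 v737 rfl))) (RngF.app (RngF.app (rngZ_of_loop 23648 v738 rfl) (rngZ_of_loop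 23680 v739 rfl)) (RngF.app (rngZ_of_loop 23712 v740 rfl) (rngZ_of_loop 23744 v741 rfl))))))))

end H34.Fi23a
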