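import Cfsg.Agent.Lib.H34.Fi23a.PData

set_option autoImplicit false
set_option maxRecDepth 100000
set_option Elab.async false

noncomputable section

namespace H34.Fi23a

open H34.T2

theorem v742 : loop2 (fun i => Nat.beq (Z i) 0) 2 16 23744 = true := by decide +kernel
theorem v743 : loop2 (fun i => Nat.beq (Z i) 0) 2 16 23776 = true := by decide +kernel
theorem v744 : loop2 (fun i => Nat.beq (Z i) 0) 2 16 23808 = true := by decide +kernel
theorem v745 : loop2 (fun i => Nat.beq (Z i) 0) 2 16 23840 = true := by decide +kernel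
theorem v746 : loop2 (fun i => Nat.beq (Z i) 0) 2 16 23872 = true := by decide +kernel
theorem v747 : loop2 (fun i => Nat.beq (Z i) 0) 2 16 23904 = true := by decide +kernel
theorem v748 : loop2 (fun i => Nat.beq (Z i) 0) 2 16 23936 = true := by decide +kernel
theorem v749 : loop2 (fun i => Nat.beq (Z i) 0) 2 16 23968 = true := by decide +kernel
theorem v750 : loop2 (fun i => Nat.beq (Z i) 0) 2 16 24000 = true := by decide +kernel
theorem v751 : loop2 (fun i => Nat.beq (Z i) 0) 2 16 24032 = true := by decide +kernel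
theorem v752 : loop2 (fun i => Nat.beq (Z i) 0) 2 16 24064 = true := by decide +kernel
theorem v753 : loop2 (fun i => Nat.beq (Z i) 0) 2 16 24096 = true := by decide +kernel
theorem v754 : loop2 (fun i => Nat.beq (Z i) 0) 2 16 24128 = true := by decide +kernel
theorem v755 : loop2 (fun i => Nat.beq (Z i) 0) 2 16 24160 = true := by decide +kernel
theorem v756 : loop2 (fun i => Nat.beq (Z i) 0) 2 16 24192 = true := by decide +kernel
theorem v757 : loop2 (fun i => Nat.beq (Z i) 0) 2 16 24224 = true := by decide +kernel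
theorem v758 : loop2 (fun i => Nat.beq (Z i) 0) 2 16 24256 = true := by decide +kernel
theorem v759 : loop2 (fun i => Nat.beq (Z i) 0) 2 16 24288 = true := by decide +kernel
theorem v760 : loop2 (fun i => Nat.beq (Z i) 0) 2 16 24320 = true := by decide +kernel
theorem v761 : loop2 (fun i => Nat.beq (Z i) 0) 2 16 24352 = true := by decide +kernel
theorem v762 : loop2 (fun i => Nat.beq (Z i) 0) 2 16 24384 = true := by decide +kernel
theorem v763 : loop2 (fun i => Nat.beq (Z i) 0) 2 16 24416 = true := by decide +kernel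
theorem v764 : loop2 (fun i => Nat.beq (Z i) 0) 2 16 24448 = true := by decide +kernel
theorem v765 : loop2 (fun i => Nat.beq (Z i) 0) 2 16 24480 = true := by decide +kernel
theorem v766 : loop2 (fun i => Nat.beq (Z i) 0) 2 16 24512 = true := by decide +kernel
theorem v767 : loop2 (fun i => Nat.beq (Z i) 0) 2 16 24544 = true := by decide +kernel
theorem v768 : loop2 (fun i => Nat.beq (Z i) 0) 2 16 24576 = true := by decide +kernel
theorem v769 : loop2 (fun i => Nat.beq (Z i) 0) 2 16 24608 = true := by decide +kernel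
theorem v770 : loop2 (fun i => Nat.beq (Z i) 0) 2 16 24640 = true := by decide +kernel
theorem v771 : loop2 (fun i => Nat.beq (Z i) 0) 2 16 24672 = true := by decide +kernel
theorem v772 : loop2 (fun i => Nat.beq (Z i) 0) 2 16 24704 = true := by decide +kernel
theorem v773 : loop2 (fun i => Nat.beq (Z i) 0) 2 16 24736 = true := by decide +kernel
theorem v774 : loop2 (fun i => Nat.beq (Z i) 0) 2 16 24768 = true := by decide +kernel
theorem v775 : loop2 (fun i => Nat.beq (Z i) 0) 2 16 24800 = true := by decide +kernel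
theorem v776 : loop2 (fun i => Nat.beq (Z i) 0) 2 16 24832 = true := by decide +kernel
theorem v777 : loop2 (fun i => Nat.beq (Z i) 0) 2 16 24864 = true := by decide +kernel
theorem v778 : loop2 (fun i => Nat.beq (Z i) 0) 2 16 24896 = true := by decide +kernel
theorem v779 : loop2 (fun i => Nat.beq (Z i) 0) 2 16 24928 = true := by decide +kernel
theorem v780 : loop2 (fun i => Nat.beq (Z i) 0) 2 16 24960 = true := by decide +kernel
theorem v781 : loop2 (fun i => Nat.beq (Z i) 0) 2 16 24992 = true := by decide +kernel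
theorem v782 : loop2 (fun i => Nat.beq (Z i) 0) 2 16 25024 = true := by decide +kernel
theorem v783 : loop2 (fun i => Nat.beq (Z i) 0) 2 16 25056 = true := by decide +kernel
theorem v784 : loop2 (fun i => Nat.beq (Z i) 0) 2 16 25088 = true := by decide +kernel
theorem v785 : loop2 (fun i => Nat.beq (Z i) 0) 2 16 25120 = true := by decide +kernel
theorem v786 : loop2 (fun i => Nat.beq (Z i) 0) 2 16 25152 = true := by decide +kernel
theorem v787 : loop2 (fun i => Nat.beq (Z i) 0) 2 16 25184 = true := by decide +kernel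
theorem v788 : loop2 (fun i => Nat.beq (Z i) 0) 2 16 25216 = true := by decide +kernel
theorem v789 : loop2 (fun i => Nat.beq (Z i) 0) 2 16 25248 = true := by decide +kernel
theorem v790 : loop2 (fun i => Nat.beq (Z i) 0) 2 16 25280 = true := by decide +kernel
theorem v791 : loop2 (fun i => Nat.beq (Z i) 0) 2 16 25312 = true := by decide +kernel
theorem v792 : loop2 (fun i => Nat.beq (Z i) 0) 2 16 25344 = true := by decide +kernel
theorem v793 : loop2 (fun i => Nat.beq (Z i) 0) 2 16 25376 = true := by decide +kernel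
theorem v794 : loop2 (fun i => Nat.beq (Z i) 0) 2 16 25408 = true := by decide +kernel
theorem v795 : loop2 (fun i => Nat.beq (Z i) 0) 2 16 25440 = true := by decide +kernel
theorem v796 : loop2 (fun i => Nat.beq (Z i) 0) 2 16 25472 = true := by decide +kernel
theorem v797 : loop2 (fun i => Nat.beq (Z i) 0) 2 16 25504 = true := by decide +kernel
theorem v798 : loop2 (fun i => Nat.beq (Z i) 0) 2 16 25536 = true := by decide +kernel
theorem v799 : loop2 (fun i => Nat.beq (Z i) 0) 2 16 25568 = true := by decide +kernel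
theorem v800 : loop2 (fun i => Nat.beq (Z i) 0) 2 16 25600 = true := by decide +kernel
theorem v801 : loop2 (fun i => Nat.beq (Z i) 0) 2 16 25632 = true := by decide +kernel
theorem v802 : loop2 (fun i => Nat.beq (Z i) 0) 2 16 25664 = true := by decide +kernel
theorem v803 : loop2 (fun i => Nat.beq (Z i) 0) 2 16 25696 = true := by decide +kernel
theorem v804 : loop2 (fun i => Nat.beq (Z i) 0) 2 16 25728 = true := by decide +kernel
theorem v805 : loop2 (fun i => Nat.beq (Z i) 0) 2 16 25760 = true := by decide +kernel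
theorem v806 : loop2 (fun i => Nat.beq (Z i) 0) 2 16 25792 = true := by decide +kernel
theorem v807 : loop2 (fun i => Nat.beq (Z i) 0) 2 16 25824 = true := by decide +kernel
theorem v808 : loop2 (fun i => Nat.beq (Z i) 0) 2 16 25856 = true := by decide +kernel
theorem v809 : loop2 (fun i => Nat.beq (Z i) 0) 2 16 25888 = true := by decide +kernel
theorem v810 : loop2 (fun i => Nat.beq (Z i) 0) 2 16 25920 = true := by decide +kernel
theorem v811 : loop2 (fun i => Nat.beq (Z i) 0) 2 16 25952 = true := by decide +kernel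
theorem v812 : loop2 (fun i => Nat.beq (Z i) 0) 2 16 25984 = true := by decide +kernel
theorem v813 : loop2 (fun i => Nat.beq (Z i) 0) 2 16 26016 = true := by decide +kernel
theorem v814 : loop2 (fun i => Nat.beq (Z i) 0) 2 16 26048 = true := by decide +kernel
theorem v815 : loop2 (fun i => Nat.beq (Z i) 0) 2 16 26080 = true := by decide +kernel
theorem v816 : loop2 (fun i => Nat.beq (Z i) 0) 2 16 26112 = true := by decide +kernel
theorem v817 : loop2 (fun i => Nat.beq (Z i) 0) 2 16 26144 = true := by decide +kernel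
theorem v818 : loop2 (fun i => Nat.beq (Z i) 0) 2 16 26176 = true := by decide +kernel
theorem v819 : loop2 (fun i => Nat.beq (Z i) 0) 2 16 26208 = true := by decide +kernel
theorem v820 : loop2 (fun i => Nat.beq (Z i) 0) 2 16 26240 = true := by decide +kernel
theorem v821 : loop2 (fun i => Nat.beq (Z i) 0) 2 16 26272 = true := by decide +kernel
theorem v822 : loop2 (fun i => Nat.beq (Z i) 0) 2 16 26304 = true := by decide +kernel
theorem v823 : loop2 (fun i => Nat.beq (Z i) 0) 2 16 26336 = true := by decide +kernel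
theorem v824 : loop2 (fun i => Nat.beq (Z i) 0) 2 16 26368 = true := by decide +kernel
theorem v825 : loop2 (fun i => Nat.beq (Z i) 0) 2 16 26400 = true := by decide +kernel
theorem v826 : loop2 (fun i => Nat.beq (Z i) 0) 2 16 26432 = true := by decide +kernel
theorem v827 : loop2 (fun i => Nat.beq (Z i) 0) 2 16 26464 = true := by decide +kernel
theorem v828 : loop2 (fun i => Nat.beq (Z i) 0) 2 16 26496 = true := by decide +kernel
theorem v829 : loop2 (fun i => Nat.beq (Z i) 0) 2 16 26528 = true := by decide +kernel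
theorem v830 : loop2 (fun i => Nat.beq (Z i) 0) 2 16 26560 = true := by decide +kernel
theorem v831 : loop2 (fun i => Nat.beq (Z i) 0) 2 16 26592 = true := by decide +kernel
theorem v832 : loop2 (fun i => Nat.beq (Z i) 0) 2 16 26624 = true := by decide +kernel
theorem v833 : loop2 (fun i => Nat.beq (Z i) 0) 2 16 26656 = true := by decide +kernel
theorem v834 : loop2 (fun i => Nat.beq (Z i) 0) 2 16 26688 = true := by decide +kernel
theorem v835 : loop2 (fun i => Nat.beq (Z i) 0) 2 16 26720 = true := by decide +kernel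
theorem v836 : loop2 (fun i => Nat.beq (Z i) 0) 2 16 26752 = true := by decide +kernel
theorem v837 : loop2 (fun i => Nat.beq (Z i) 0) 2 16 26784 = true := by decide +kernel
theorem v838 : loop2 (fun i => Nat.beq (Z i) 0) 2 16 26816 = true := by decide +kernel
theorem v839 : loop2 (fun i => Nat.beq (Z i) 0) 2 16 26848 = true := by decide +kernel
theorem v840 : loop2 (fun i => Nat.beq (Z i) 0) 2 16 26880 = true := by decide +kernel
theorem v841 : loop2 (fun i => Nat.beq (Z i) 0) 2 16 26912 = true := by decide +kernel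
theorem v842 : loop2 (fun i => Nat.beq (Z i) 0) 2 16 26944 = true := by decide +kernel
theorem v843 : loop2 (fun i => Nat.beq (Z i) 0) 2 16 26976 = true := by decide +kernel
theorem v844 : loop2 (fun i => Nat.beq (Z i) 0) 2 16 27008 = true := by decide +kernel
theorem v845 : loop2 (fun i => Nat.beq (Z i) 0) 2 16 27040 = true := by decide +kernel
theorem v846 : loop2 (fun i => Nat.beq (Z i) 0) 2 16 27072 = true := by decide +kernel
theorem v847 : loop2 (fun i => Nat.beq (Z i) 0) 2 16 27104 = true := by decide +kernel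
theorem v848 : loop2 (fun i => Nat.beq (Z i) 0) 2 16 27136 = true := by decide +kernel
theorem v849 : loop2 (fun i => Nat.beq (Z i) 0) 2 16 27168 = true := by decide +kernel
theorem v850 : loop2 (fun i => Nat.beq (Z i) 0) 2 16 27200 = true := by decide +kernel
theorem v851 : loop2 (fun i => Nat.beq (Z i) 0) 2 16 27232 = true := by decide +kernel
theorem v852 : loop2 (fun i => Nat.beq (Z i) 0) 2 16 27264 = true := by decide +kernel
theorem v853 : loop2 (fun i => Nat.beq (Z i) 0) 2 16 27296 = true := by decide +kernel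
theorem v854 : loop2 (fun i => Nat.beq (Z i) 0) 2 16 27328 = true := by decide +kernel
theorem v855 : loop2 (fun i => Nat.beq (Z i) 0) 2 16 27360 = true := by decide +kernel
theorem v856 : loop2 (fun i => Nat.beq (Z i) 0) 2 16 27392 = true := by decide +kernel
theorem v857 : loop2 (fun i => Nat.beq (Z i) 0) 2 16 27424 = true := by decide +kernel
theorem v858 : loop2 (fun i => Nat.beq (Z i) 0) 2 16 27456 = true := by decide +kernel
theorem v859 : loop2 (fun i => Nat.beq (Z i) 0) 2 16 27488 = true := by decide +kernel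
theorem v860 : loop2 (fun i => Nat.beq (Z i) 0) 2 16 27520 = true := by decide +kernel
theorem v861 : loop2 (fun i => Nat.beq (Z i) 0) 2 16 27552 = true := by decide +kernel
theorem v862 : loop2 (fun i => Nat.beq (Z i) 0) 2 16 27584 = true := by decide +kernel
theorem v863 : loop2 (fun i => Nat.beq (Z i) 0) 2 16 27616 = true := by decide +kernel
theorem v864 : loop2 (fun i => Nat.beq (Z i) 0) 2 16 27648 = true := by decide +kernel
theorem v865 : loop2 (fun i => Nat.beq (Z i) 0) 2 16 27680 = true := by decide +kernel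
theorem z6 : RngF (fun _ z => z = 0) Z 23744 27712 := (RngF.app (RngF.app (RngF.app (RngF.app (RngF.app (RngF.app (rngZ_of_loop 23776 v742 rfl) (RngF.app (rngZ_of_loop 23808 v743 rfl) (rngZ_of_loop 23840 v744 rfl))) (RngF.app (RngF.app (rngZ_of_loop 23872 v745 rfl) (rngZ_of_loop 23904 v746 rfl)) (RngF.app (rngZ_of_loop 23936 v747 rfl) (rngZ_of_loop 23968 v748 rfl)))) (RngF.app (RngF.app (RngF.app (rngZ_of_loop 24000 v749 rfl) (rngZ_of_loop 24032 v750 rfl)) (RngF.app (rngZ_of_loop 24064 v751 rfl) (rngZ_of_loop 24096 v752 rfl))) (RngF.app (RngF.app (rngZ_of_loop 24128 v753 rfl) (rngZ_of_loop 24160 v754 rfl)) (RngF.app (rngZ_of_loop 24192 v755 rfl) (rngZ_of_loop 24224 v756 rfl))))) (RngF.app (RngF.app (RngF.app (RngF.app (rngZ_of_loop 24256 v757 rfl) (rngZ_of_loop 24288 v758 rfl)) (RngF.app (rngZ_of_loop 24320 v759 rfl) (rngZ_of_loop 24352 v760 rfl))) (RngF.app (RngF.app (rngZ_of_loop 24384 v761 rfl) (rngZ_of_loop 24416 v762 rfl)) (RngF.app (rngZ_of_loop 24448 v763 rfl) (rngZ_of_loop 24480 v764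 rfl)))) (RngF.app (RngF.app (RngF.app (rngZ_of_loop 24512 v765 rfl) (rngZ_of_loop 24544 v766 rfl)) (RngF.app (rngZ_of_loop 24576 v767 rfl) (rngZ_of_loop 24608 v768 rfl))) (RngF.app (RngF.app (rngZ_of_loop 24640 v769 rfl) (rngZ_of_loop 24672 v770 rfl)) (RngF.app (rngZ_of_loop 24704 v771 rfl) (rngZ_of_loop 24736 v772 rfl)))))) (RngF.app (RngF.app (RngF.app (RngF.app (rngZ_of_loop 24768 v773 rfl) (RngF.app (rngZ_of_loop 24800 v774 rfl) (rngZ_of_loop 24832 v775 rfl))) (RngF.app (RngF.app (rngZ_of_loop 24864 v776 rfl) (rngZ_of_loop 24896 v777 rfl)) (RngF.app (rngZ_of_loop 24928 v778 rfl) (rngZ_of_loop 24960 v779 rfl)))) (RngF.app (RngF.app (RngF.app (rngZ_of_loop 24992 v780 rfl) (rngZ_of_loop 25024 v781 rfl)) (RngF.app (rngZ_of_loop 25056 v782 rfl) (rngZ_of_loop 25088 v783 rfl))) (RngF.app (RngF.app (rngZ_of_loop 25120 v784 rfl) (rngZ_of_loop 25152 v785 rfl)) (RngF.app (rngZ_of_loop 25184 v786 rfl) (rngZ_of_loop 25216 v787 rfl))))) (RngF.app (RngF.app (RngF.app (RngF.app (rngZ_of_loop 25248 v788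 rfl) (rngZ_of_loop 25280 v789 rfl)) (RngF.app (rngZ_of_loop 25312 v790 rfl) (rngZ_of_loop 25344 v791 rfl))) (RngF.app (RngF.app (rngZ_of_loop 25376 v792 rfl) (rngZ_of_loop 25408 v793 rfl)) (RngF.app (rngZ_of_loop 25440 v794 rfl) (rngZ_of_loop 25472 v795 rfl)))) (RngF.app (RngF.app (RngF.app (rngZ_of_loop 25504 v796 rfl) (rngZ_of_loop 25536 v797 rfl)) (RngF.app (rngZ_of_loop 25568 v798 rfl) (rngZ_of_loop 25600 v799 rfl))) (RngF.app (RngF.app (rngZ_of_loop 25632 v800 rfl) (rngZ_of_loop 25664 v801 rfl)) (RngF.app (rngZ_of_loop 25696 v802 rfl) (rngZ_of_loop 25728 v803 rfl))))))) (RngF.app (RngF.app (RngF.app (RngF.app (RngF.app (rngZ_of_loop 25760 v804 rfl) (RngF.app (rngZ_of_loop 25792 v805 rfl) (rngZ_of_loop 25824 v806 rfl))) (RngF.app (RngF.app (rngZ_of_loop 25856 v807 rfl) (rngZ_of_loop 25888 v808 rfl)) (RngF.app (rngZ_of_loop 25920 v809 rfl) (rngZ_of_loop 25952 v810 rfl)))) (RngF.app (RngF.app (RngF.app (rngZ_of_loop 25984 v811 rfl) (rngZ_of_loop 26016 v812 rfl)) (RngF.app (rngZ_of_loop 26048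 v813 rfl) (rngZ_of_loop 26080 v814 rfl))) (RngF.app (RngF.app (rngZ_of_loop 26112 v815 rfl) (rngZ_of_loop 26144 v816 rfl)) (RngF.app (rngZ_of_loop 26176 v817 rfl) (rngZ_of_loop 26208 v818 rfl))))) (RngF.app (RngF.app (RngF.app (RngF.app (rngZ_of_loop 26240 v819 rfl) (rngZ_of_loop 26272 v820 rfl)) (RngF.app (rngZ_of_loop 26304 v821 rfl) (rngZ_of_loop 26336 v822 rfl))) (RngF.app (RngF.app (rngZ_of_loop 26368 v823 rfl) (rngZ_of_loop 26400 v824 rfl)) (RngF.app (rngZ_of_loop 26432 v825 rfl) (rngZ_of_loop 26464 v826 rfl)))) (RngF.app (RngF.app (RngF.app (rngZ_of_loop 26496 v827 rfl) (rngZ_of_loop 26528 v828 rfl)) (RngF.app (rngZ_of_loop 26560 v829 rfl) (rngZ_of_loop 26592 v830 rfl))) (RngF.app (RngF.app (rngZ_of_loop 26624 v831 rfl) (rngZ_of_loop 26656 v832 rfl)) (RngF.app (rngZ_of_loop 26688 v833 rfl) (rngZ_of_loop 26720 v834 rfl)))))) (RngF.app (RngF.app (RngF.app (RngF.app (rngZ_of_loop 26752 v835 rfl) (RngF.app (rngZ_of_loop 26784 v836 rfl) (rngZ_of_loop 26816 v837 rfl))) (RngF.app (RngF.app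 (rngZ_of_loop 26848 v838 rfl) (rngZ_of_loop 26880 v839 rfl)) (RngF.app (rngZ_of_loop 26912 v840 rfl) (rngZ_of_loop 26944 v841 rfl)))) (RngF.app (RngF.app (RngF.app (rngZ_of_loop 26976 v842 rfl) (rngZ_of_loop 27008 v843 rfl)) (RngF.app (rngZ_of_loop 27040 v844 rfl) (rngZ_of_loop 27072 v845 rfl))) (RngF.app (RngF.app (rngZ_of_loop 27104 v846 rfl) (rngZ_of_loop 27136 v847 rfl)) (RngF.app (rngZ_of_loop 27168 v848 rfl) (rngZ_of_loop 27200 v849 rfl))))) (RngF.app (RngF.app (RngF.app (RngF.app (rngZ_of_loop 27232 v850 rfl) (rngZ_of_loop 27264 v851 rfl)) (RngF.app (rngZ_of_loop 27296 v852 rfl) (rngZ_of_loop 27328 v853 rfl))) (RngF.app (RngF.app (rngZ_of_loop 27360 v854 rfl) (rngZ_of_loop 27392 v855 rfl)) (RngF.app (rngZ_of_loop 27424 v856 rfl) (rngZ_of_loop 27456 v857 rfl)))) (RngF.app (RngF.app (RngF.app (rngZ_of_loop 27488 v858 rfl) (rngZ_of_loop 27520 v859 rfl)) (RngF.app (rngZ_of_loop 27552 v860 rfl) (rngZ_of_loop 27584 v861 rfl))) (RngF.app (RngF.app (rngZ_of_loop 27616 v862 rfl) (rngZ_of_loop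 27648 v863 rfl)) (RngF.app (rngZ_of_loop 27680 v864 rfl) (rngZ_of_loop 27712 v865 rfl))))))))

end H34.Fi23a
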