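import Cfsg.Agent.Lib.H34.Fi23a.PData

set_option autoImplicit false
set_option maxRecDepth 100000
set_option Elab.async false

noncomputable section

namespace H34.Fi23a

open H34.T2

theorem v866 : loop2 (fun i => Nat.beq (Z i) 0) 2 16 27712 = true := by decide +kernel
theorem v867 : loop2 (fun i => Nat.beq (Z i) 0) 2 16 27744 = true := by decide +kernel
theorem v868 : loop2 (fun i => Nat.beq (Z i) 0) 2 16 27776 = true := by decide +kernel
theorem v869 : loop2 (fun i => Nat.beq (Z i) 0) 2 16 27808 = true := by decide +kernel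
theorem v870 : loop2 (fun i => Nat.beq (Z i) 0) 2 16 27840 = true := by decide +kernel
theorem v871 : loop2 (fun i => Nat.beq (Z i) 0) 2 16 27872 = true := by decide +kernel
theorem v872 : loop2 (fun i => Nat.beq (Z i) 0) 2 16 27904 = true := by decide +kernel
theorem v873 : loop2 (fun i => Nat.beq (Z i) 0) 2 16 27936 = true := by decide +kernel
theorem v874 : loop2 (fun i => Nat.beq (Z i) 0) 2 16 27968 = true := by decide +kernel
theorem v875 : loop2 (fun i => Nat.beq (Z i) 0) 2 16 28000 = true := by decide +kernel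
theorem v876 : loop2 (fun i => Nat.beq (Z i) 0) 2 16 28032 = true := by decide +kernel
theorem v877 : loop2 (fun i => Nat.beq (Z i) 0) 2 16 28064 = true := by decide +kernel
theorem v878 : loop2 (fun i => Nat.beq (Z i) 0) 2 16 28096 = true := by decide +kernel
theorem v879 : loop2 (fun i => Nat.beq (Z i) 0) 2 16 28128 = true := by decide +kernel
theorem v880 : loop2 (fun i => Nat.beq (Z i) 0) 2 16 28160 = true := by decide +kernel
theorem v881 : loop2 (fun i => Nat.beq (Z i) 0) 2 16 28192 = true := by decide +kernel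
theorem v882 : loop2 (fun i => Nat.beq (Z i) 0) 2 16 28224 = true := by decide +kernel
theorem v883 : loop2 (fun i => Nat.beq (Z i) 0) 2 16 28256 = true := by decide +kernel
theorem v884 : loop2 (fun i => Nat.beq (Z i) 0) 2 16 28288 = true := by decide +kernel
theorem v885 : loop2 (fun i => Nat.beq (Z i) 0) 2 16 28320 = true := by decide +kernel
theorem v886 : loop2 (fun i => Nat.beq (Z i) 0) 2 16 28352 = true := by decide +kernel
theorem v887 : loop2 (fun i => Nat.beq (Z i) 0) 2 16 28384 = true := by decide +kernel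
theorem v888 : loop2 (fun i => Nat.beq (Z i) 0) 2 16 28416 = true := by decide +kernel
theorem v889 : loop2 (fun i => Nat.beq (Z i) 0) 2 16 28448 = true := by decide +kernel
theorem v890 : loop2 (fun i => Nat.beq (Z i) 0) 2 16 28480 = true := by decide +kernel
theorem v891 : loop2 (fun i => Nat.beq (Z i) 0) 2 16 28512 = true := by decide +kernel
theorem v892 : loop2 (fun i => Nat.beq (Z i) 0) 2 16 28544 = true := by decide +kernel
theorem v893 : loop2 (fun i => Nat.beq (Z i) 0) 2 16 28576 = true := by decide +kernel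
theorem v894 : loop2 (fun i => Nat.beq (Z i) 0) 2 16 28608 = true := by decide +kernel
theorem v895 : loop2 (fun i => Nat.beq (Z i) 0) 2 16 28640 = true := by decide +kernel
theorem v896 : loop2 (fun i => Nat.beq (Z i) 0) 2 16 28672 = true := by decide +kernel
theorem v897 : loop2 (fun i => Nat.beq (Z i) 0) 2 16 28704 = true := by decide +kernel
theorem v898 : loop2 (fun i => Nat.beq (Z i) 0) 2 16 28736 = true := by decide +kernel
theorem v899 : loop2 (fun i => Nat.beq (Z i) 0) 2 16 28768 = true := by decide +kernel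
theorem v900 : loop2 (fun i => Nat.beq (Z i) 0) 2 16 28800 = true := by decide +kernel
theorem v901 : loop2 (fun i => Nat.beq (Z i) 0) 2 16 28832 = true := by decide +kernel
theorem v902 : loop2 (fun i => Nat.beq (Z i) 0) 2 16 28864 = true := by decide +kernel
theorem v903 : loop2 (fun i => Nat.beq (Z i) 0) 2 16 28896 = true := by decide +kernel
theorem v904 : loop2 (fun i => Nat.beq (Z i) 0) 2 16 28928 = true := by decide +kernel
theorem v905 : loop2 (fun i => Nat.beq (Z i) 0) 2 16 28960 = true := by decide +kernel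
theorem v906 : loop2 (fun i => Nat.beq (Z i) 0) 2 16 28992 = true := by decide +kernel
theorem v907 : loop2 (fun i => Nat.beq (Z i) 0) 2 16 29024 = true := by decide +kernel
theorem v908 : loop2 (fun i => Nat.beq (Z i) 0) 2 16 29056 = true := by decide +kernel
theorem v909 : loop2 (fun i => Nat.beq (Z i) 0) 2 16 29088 = true := by decide +kernel
theorem v910 : loop2 (fun i => Nat.beq (Z i) 0) 2 16 29120 = true := by decide +kernel
theorem v911 : loop2 (fun i => Nat.beq (Z i) 0) 2 16 29152 = true := by decide +kernel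
theorem v912 : loop2 (fun i => Nat.beq (Z i) 0) 2 16 29184 = true := by decide +kernel
theorem v913 : loop2 (fun i => Nat.beq (Z i) 0) 2 16 29216 = true := by decide +kernel
theorem v914 : loop2 (fun i => Nat.beq (Z i) 0) 2 16 29248 = true := by decide +kernel
theorem v915 : loop2 (fun i => Nat.beq (Z i) 0) 2 16 29280 = true := by decide +kernel
theorem v916 : loop2 (fun i => Nat.beq (Z i) 0) 2 16 29312 = true := by decide +kernel
theorem v917 : loop2 (fun i => Nat.beq (Z i) 0) 2 16 29344 = true := by decide +kernel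
theorem v918 : loop2 (fun i => Nat.beq (Z i) 0) 2 16 29376 = true := by decide +kernel
theorem v919 : loop2 (fun i => Nat.beq (Z i) 0) 2 16 29408 = true := by decide +kernel
theorem v920 : loop2 (fun i => Nat.beq (Z i) 0) 2 16 29440 = true := by decide +kernel
theorem v921 : loop2 (fun i => Nat.beq (Z i) 0) 2 16 29472 = true := by decide +kernel
theorem v922 : loop2 (fun i => Nat.beq (Z i) 0) 2 16 29504 = true := by decide +kernel
theorem v923 : loop2 (fun i => Nat.beq (Z i) 0) 2 16 29536 = true := by decide +kernel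
theorem v924 : loop2 (fun i => Nat.beq (Z i) 0) 2 16 29568 = true := by decide +kernel
theorem v925 : loop2 (fun i => Nat.beq (Z i) 0) 2 16 29600 = true := by decide +kernel
theorem v926 : loop2 (fun i => Nat.beq (Z i) 0) 2 16 29632 = true := by decide +kernel
theorem v927 : loop2 (fun i => Nat.beq (Z i) 0) 2 16 29664 = true := by decide +kernel
theorem v928 : loop2 (fun i => Nat.beq (Z i) 0) 2 16 29696 = true := by decide +kernel
theorem v929 : loop2 (fun i => Nat.beq (Z i) 0) 2 16 29728 = true := by decide +kernel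
theorem v930 : loop2 (fun i => Nat.beq (Z i) 0) 2 16 29760 = true := by decide +kernel
theorem v931 : loop2 (fun i => Nat.beq (Z i) 0) 2 16 29792 = true := by decide +kernel
theorem v932 : loop2 (fun i => Nat.beq (Z i) 0) 2 16 29824 = true := by decide +kernel
theorem v933 : loop2 (fun i => Nat.beq (Z i) 0) 2 16 29856 = true := by decide +kernel
theorem v934 : loop2 (fun i => Nat.beq (Z i) 0) 2 16 29888 = true := by decide +kernel
theorem v935 : loop2 (fun i => Nat.beq (Z i) 0) 2 16 29920 = true := by decide +kernel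
theorem v936 : loop2 (fun i => Nat.beq (Z i) 0) 2 16 29952 = true := by decide +kernel
theorem v937 : loop2 (fun i => Nat.beq (Z i) 0) 2 16 29984 = true := by decide +kernel
theorem v938 : loop2 (fun i => Nat.beq (Z i) 0) 2 16 30016 = true := by decide +kernel
theorem v939 : loop2 (fun i => Nat.beq (Z i) 0) 2 16 30048 = true := by decide +kernel
theorem v940 : loop2 (fun i => Nat.beq (Z i) 0) 2 16 30080 = true := by decide +kernel
theorem v941 : loop2 (fun i => Nat.beq (Z i) 0) 2 16 30112 = true := by decide +kernel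
theorem v942 : loop2 (fun i => Nat.beq (Z i) 0) 2 16 30144 = true := by decide +kernel
theorem v943 : loop2 (fun i => Nat.beq (Z i) 0) 2 16 30176 = true := by decide +kernel
theorem v944 : loop2 (fun i => Nat.beq (Z i) 0) 2 16 30208 = true := by decide +kernel
theorem v945 : loop2 (fun i => Nat.beq (Z i) 0) 2 16 30240 = true := by decide +kernel
theorem v946 : loop2 (fun i => Nat.beq (Z i) 0) 2 16 30272 = true := by decide +kernel
theorem v947 : loop2 (fun i => Nat.beq (Z i) 0) 2 16 30304 = true := by decide +kernel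
theorem v948 : loop2 (fun i => Nat.beq (Z i) 0) 2 16 30336 = true := by decide +kernel
theorem v949 : loop2 (fun i => Nat.beq (Z i) 0) 2 16 30368 = true := by decide +kernel
theorem v950 : loop2 (fun i => Nat.beq (Z i) 0) 2 16 30400 = true := by decide +kernel
theorem v951 : loop2 (fun i => Nat.beq (Z i) 0) 2 16 30432 = true := by decide +kernel
theorem v952 : loop2 (fun i => Nat.beq (Z i) 0) 2 16 30464 = true := by decide +kernel
theorem v953 : loop2 (fun i => Nat.beq (Z i) 0) 2 16 30496 = true := by decide +kernel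
theorem v954 : loop2 (fun i => Nat.beq (Z i) 0) 2 16 30528 = true := by decide +kernel
theorem v955 : loop2 (fun i => Nat.beq (Z i) 0) 2 16 30560 = true := by decide +kernel
theorem v956 : loop2 (fun i => Nat.beq (Z i) 0) 2 16 30592 = true := by decide +kernel
theorem v957 : loop2 (fun i => Nat.beq (Z i) 0) 2 16 30624 = true := by decide +kernel
theorem v958 : loop2 (fun i => Nat.beq (Z i) 0) 2 16 30656 = true := by decide +kernel
theorem v959 : loop2 (fun i => Nat.beq (Z i) 0) 2 16 30688 = true := by decide +kernel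
theorem v960 : loop2 (fun i => Nat.beq (Z i) 0) 2 16 30720 = true := by decide +kernel
theorem v961 : loop2 (fun i => Nat.beq (Z i) 0) 2 16 30752 = true := by decide +kernel
theorem v962 : loop2 (fun i => Nat.beq (Z i) 0) 2 16 30784 = true := by decide +kernel
theorem v963 : loop2 (fun i => Nat.beq (Z i) 0) 2 16 30816 = true := by decide +kernel
theorem v964 : loop2 (fun i => Nat.beq (Z i) 0) 2 16 30848 = true := by decide +kernel
theorem v965 : loop2 (fun i => Nat.beq (Z i) 0) 2 16 30880 = true := by decide +kernel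
theorem v966 : loop2 (fun i => Nat.beq (Z i) 0) 2 16 30912 = true := by decide +kernel
theorem v967 : loop2 (fun i => Nat.beq (Z i) 0) 2 16 30944 = true := by decide +kernel
theorem v968 : loop2 (fun i => Nat.beq (Z i) 0) 2 16 30976 = true := by decide +kernel
theorem v969 : loop2 (fun i => Nat.beq (Z i) 0) 2 16 31008 = true := by decide +kernel
theorem v970 : loop2 (fun i => Nat.beq (Z i) 0) 2 16 31040 = true := by decide +kernel
theorem v971 : loop2 (fun i => Nat.beq (Z i) 0) 2 16 31072 = true := by decide +kernel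
theorem v972 : loop2 (fun i => Nat.beq (Z i) 0) 2 16 31104 = true := by decide +kernel
theorem v973 : loop2 (fun i => Nat.beq (Z i) 0) 2 16 31136 = true := by decide +kernel
theorem v974 : loop2 (fun i => Nat.beq (Z i) 0) 2 16 31168 = true := by decide +kernel
theorem v975 : loop2 (fun i => Nat.beq (Z i) 0) 2 16 31200 = true := by decide +kernel
theorem v976 : loop2 (fun i => Nat.beq (Z i) 0) 2 16 31232 = true := by decide +kernel
theorem v977 : loop2 (fun i => Nat.beq (Z i) 0) 2 16 31264 = true := by decide +kernel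
theorem v978 : loop2 (fun i => Nat.beq (Z i) 0) 2 16 31296 = true := by decide +kernel
theorem v979 : loop2 (fun i => Nat.beq (Z i) 0) 2 16 31328 = true := by decide +kernel
theorem v980 : loop2 (fun i => Nat.beq (Z i) 0) 2 16 31360 = true := by decide +kernel
theorem v981 : loop2 (fun i => Nat.beq (Z i) 0) 2 16 31392 = true := by decide +kernel
theorem v982 : loop2 (fun i => Nat.beq (Z i) 0) 2 16 31424 = true := by decide +kernel
theorem v983 : loop2 (fun i => Nat.beq (Z i) 0) 2 16 31456 = true := by decide +kernel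
theorem v984 : loop2 (fun i => Nat.beq (Z i) 0) 2 16 31488 = true := by decide +kernel
theorem v985 : loop2 (fun i => Nat.beq (Z i) 0) 2 16 31520 = true := by decide +kernel
theorem v986 : loop2 (fun i => Nat.beq (Z i) 0) 2 16 31552 = true := by decide +kernel
theorem v987 : loop2 (fun i => Nat.beq (Z i) 0) 2 16 31584 = true := by decide +kernel
theorem v988 : loop2 (fun i => Nat.beq (Z i) 0) 2 16 31616 = true := by decide +kernel
theorem v989 : loop2 (fun i => Nat.beq (Z i) 0) 2 16 31648 = true := by decide +kernel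
theorem z7 : RngF (fun _ z => z = 0) Z 27712 31680 := (RngF.app (RngF.app (RngF.app (RngF.app (RngF.app (RngF.app (rngZ_of_loop 27744 v866 rfl) (RngF.app (rngZ_of_loop 27776 v867 rfl) (rngZ_of_loop 27808 v868 rfl))) (RngF.app (RngF.app (rngZ_of_loop 27840 v869 rfl) (rngZ_of_loop 27872 v870 rfl)) (RngF.app (rngZ_of_loop 27904 v871 rfl) (rngZ_of_loop 27936 v872 rfl)))) (RngF.app (RngF.app (RngF.app (rngZ_of_loop 27968 v873 rfl) (rngZ_of_loop 28000 v874 rfl)) (RngF.app (rngZ_of_loop 28032 v875 rfl) (rngZ_of_loop 28064 v876 rfl))) (RngF.app (RngF.app (rngZ_of_loop 28096 v877 rfl) (rngZ_of_loop 28128 v878 rfl)) (RngF.app (rngZ_of_loop 28160 v879 rfl) (rngZ_of_loop 28192 v880 rfl))))) (RngF.app (RngF.app (RngF.app (RngF.app (rngZ_of_loop 28224 v881 rfl) (rngZ_of_loop 28256 v882 rfl)) (RngF.app (rngZ_of_loop 28288 v883 rfl) (rngZ_of_loop 28320 v884 rfl))) (RngF.app (RngF.app (rngZ_of_loop 28352 v885 rfl) (rngZ_of_loop 28384 v886 rfl)) (RngF.app (rngZ_of_loop 28416 v887 rfl) (rngZ_of_loop 28448 v888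 rfl)))) (RngF.app (RngF.app (RngF.app (rngZ_of_loop 28480 v889 rfl) (rngZ_of_loop 28512 v890 rfl)) (RngF.app (rngZ_of_loop 28544 v891 rfl) (rngZ_of_loop 28576 v892 rfl))) (RngF.app (RngF.app (rngZ_of_loop 28608 v893 rfl) (rngZ_of_loop 28640 v894 rfl)) (RngF.app (rngZ_of_loop 28672 v895 rfl) (rngZ_of_loop 28704 v896 rfl)))))) (RngF.app (RngF.app (RngF.app (RngF.app (rngZ_of_loop 28736 v897 rfl) (RngF.app (rngZ_of_loop 28768 v898 rfl) (rngZ_of_loop 28800 v899 rfl))) (RngF.app (RngF.app (rngZ_of_loop 28832 v900 rfl) (rngZ_of_loop 28864 v901 rfl)) (RngF.app (rngZ_of_loop 28896 v902 rfl) (rngZ_of_loop 28928 v903 rfl)))) (RngF.app (RngF.app (RngF.app (rngZ_of_loop 28960 v904 rfl) (rngZ_of_loop 28992 v905 rfl)) (RngF.app (rngZ_of_loop 29024 v906 rfl) (rngZ_of_loop 29056 v907 rfl))) (RngF.app (RngF.app (rngZ_of_loop 29088 v908 rfl) (rngZ_of_loop 29120 v909 rfl)) (RngF.app (rngZ_of_loop 29152 v910 rfl) (rngZ_of_loop 29184 v911 rfl))))) (RngF.app (RngF.app (RngF.app (RngF.app (rngZ_of_loop 29216 v912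 rfl) (rngZ_of_loop 29248 v913 rfl)) (RngF.app (rngZ_of_loop 29280 v914 rfl) (rngZ_of_loop 29312 v915 rfl))) (RngF.app (RngF.app (rngZ_of_loop 29344 v916 rfl) (rngZ_of_loop 29376 v917 rfl)) (RngF.app (rngZ_of_loop 29408 v918 rfl) (rngZ_of_loop 29440 v919 rfl)))) (RngF.app (RngF.app (RngF.app (rngZ_of_loop 29472 v920 rfl) (rngZ_of_loop 29504 v921 rfl)) (RngF.app (rngZ_of_loop 29536 v922 rfl) (rngZ_of_loop 29568 v923 rfl))) (RngF.app (RngF.app (rngZ_of_loop 29600 v924 rfl) (rngZ_of_loop 29632 v925 rfl)) (RngF.app (rngZ_of_loop 29664 v926 rfl) (rngZ_of_loop 29696 v927 rfl))))))) (RngF.app (RngF.app (RngF.app (RngF.app (RngF.app (rngZ_of_loop 29728 v928 rfl) (RngF.app (rngZ_of_loop 29760 v929 rfl) (rngZ_of_loop 29792 v930 rfl))) (RngF.app (RngF.app (rngZ_of_loop 29824 v931 rfl) (rngZ_of_loop 29856 v932 rfl)) (RngF.app (rngZ_of_loop 29888 v933 rfl) (rngZ_of_loop 29920 v934 rfl)))) (RngF.app (RngF.app (RngF.app (rngZ_of_loop 29952 v935 rfl) (rngZ_of_loop 29984 v936 rfl)) (RngF.app (rngZ_of_loop 30016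 v937 rfl) (rngZ_of_loop 30048 v938 rfl))) (RngF.app (RngF.app (rngZ_of_loop 30080 v939 rfl) (rngZ_of_loop 30112 v940 rfl)) (RngF.app (rngZ_of_loop 30144 v941 rfl) (rngZ_of_loop 30176 v942 rfl))))) (RngF.app (RngF.app (RngF.app (RngF.app (rngZ_of_loop 30208 v943 rfl) (rngZ_of_loop 30240 v944 rfl)) (RngF.app (rngZ_of_loop 30272 v945 rfl) (rngZ_of_loop 30304 v946 rfl))) (RngF.app (RngF.app (rngZ_of_loop 30336 v947 rfl) (rngZ_of_loop 30368 v948 rfl)) (RngF.app (rngZ_of_loop 30400 v949 rfl) (rngZ_of_loop 30432 v950 rfl)))) (RngF.app (RngF.app (RngF.app (rngZ_of_loop 30464 v951 rfl) (rngZ_of_loop 30496 v952 rfl)) (RngF.app (rngZ_of_loop 30528 v953 rfl) (rngZ_of_loop 30560 v954 rfl))) (RngF.app (RngF.app (rngZ_of_loop 30592 v955 rfl) (rngZ_of_loop 30624 v956 rfl)) (RngF.app (rngZ_of_loop 30656 v957 rfl) (rngZ_of_loop 30688 v958 rfl)))))) (RngF.app (RngF.app (RngF.app (RngF.app (rngZ_of_loop 30720 v959 rfl) (RngF.app (rngZ_of_loop 30752 v960 rfl) (rngZ_of_loop 30784 v961 rfl))) (RngF.app (RngF.app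 (rngZ_of_loop 30816 v962 rfl) (rngZ_of_loop 30848 v963 rfl)) (RngF.app (rngZ_of_loop 30880 v964 rfl) (rngZ_of_loop 30912 v965 rfl)))) (RngF.app (RngF.app (RngF.app (rngZ_of_loop 30944 v966 rfl) (rngZ_of_loop 30976 v967 rfl)) (RngF.app (rngZ_of_loop 31008 v968 rfl) (rngZ_of_loop 31040 v969 rfl))) (RngF.app (RngF.app (rngZ_of_loop 31072 v970 rfl) (rngZ_of_loop 31104 v971 rfl)) (RngF.app (rngZ_of_loop 31136 v972 rfl) (rngZ_of_loop 31168 v973 rfl))))) (RngF.app (RngF.app (RngF.app (RngF.app (rngZ_of_loop 31200 v974 rfl) (rngZ_of_loop 31232 v975 rfl)) (RngF.app (rngZ_of_loop 31264 v976 rfl) (rngZ_of_loop 31296 v977 rfl))) (RngF.app (RngF.app (rngZ_of_loop 31328 v978 rfl) (rngZ_of_loop 31360 v979 rfl)) (RngF.app (rngZ_of_loop 31392 v980 rfl) (rngZ_of_loop 31424 v981 rfl)))) (RngF.app (RngF.app (RngF.app (rngZ_of_loop 31456 v982 rfl) (rngZ_of_loop 31488 v983 rfl)) (RngF.app (rngZ_of_loop 31520 v984 rfl) (rngZ_of_loop 31552 v985 rfl))) (RngF.app (RngF.app (rngZ_of_loop 31584 v986 rfl) (rngZ_of_loop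 31616 v987 rfl)) (RngF.app (rngZ_of_loop 31648 v988 rfl) (rngZ_of_loop 31680 v989 rfl))))))))

end H34.Fi23a
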