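import Cfsg.Agent.Lib.H34.Fi23a.U0
import Cfsg.Agent.Lib.H34.Fi23a.U1
import Cfsg.Agent.Lib.H34.Fi23a.U2
import Cfsg.Agent.Lib.H34.Fi23a.U3
import Cfsg.Agent.Lib.H34.Fi23a.U4
import Cfsg.Agent.Lib.H34.Fi23a.U5
import Cfsg.Agent.Lib.H34.Fi23a.U6
import Cfsg.Agent.Lib.H34.Fi23a.U7
import Cfsg.Agent.Lib.H34.Fi23a.V0
import Cfsg.Agent.Lib.H34.Fi23a.V1
import Cfsg.Agent.Lib.H34.Fi23a.V2
import Cfsg.Agent.Lib.H34.Fi23a.V3
import Cfsg.Agent.Lib.H34.Fi23a.V4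
import Cfsg.Agent.Lib.H34.Fi23a.V5
import Cfsg.Agent.Lib.H34.Fi23a.V6
import Cfsg.Agent.Lib.H34.Fi23a.V7
import Cfsg.Agent.Lib.H34.T2Main
import Cfsg.Prelude.Def_Spor_Fi23

set_option autoImplicit false
set_option maxRecDepth 100000
set_option Elab.async false

noncomputable section

namespace H34.Fi23a

open H34.T2 H34.TC Cfsg.Spor

noncomputable def gens : List Cfsg.Spor.Fi23.Gen := [.a, .b, .c, .d, .e, .f, .g, .j, .h, .i]

theorem hg : ∀ x, x ∈ gens := by intro x; cases x <;> decide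

theorem hn : ∀ x, x ∈ coxNodes Cfsg.Spor.Fi23.edges := by intro x; cases x <;> decide

theorem hnd : gens.Nodup := by decide

theorem hbase : baseChk gens Cfsg.Spor.Fi23.edges Cfsg.Spor.Fi23.extra base = true := by decide +kernel

theorem hrel : relChk gens Cfsg.Spor.Fi23.edges Cfsg.Spor.Fi23.extra base = true := by decide +kernel

noncomputable def K (c x : Nat) : Nat := (Nat.land (Nat.shiftRight c (Nat.mul (Nat.land x (nat_lit 4095)) (nat_lit 44))) (nat_lit 17592186044415))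

theorem r0 : RngF (fun i e => ∃ J, chkS (enF enL) E D W0 DL0 subs 38655 0 i e J = true) F0 0 40960 := (RngF.brK (K := K) (f0 := (brF 8192 (brF 4096 (fun _ => C0_0) (fun _ => C0_1)) (brF 12288 (fun _ => C0_2) (brF 16384 (fun _ => C0_3) (fun _ => C0_4))))) (f1 := (brF 28672 (brF 24576 (fun _ => C0_5) (fun _ => C0_6)) (brF 32768 (fun _ => C0_7) (brF 36864 (fun _ => C0_8) (fun _ => C0_9))))) (RngF.brK (K := K) (f0 := (brF 4096 (fun _ => C0_0) (fun _ => C0_1))) (f1 := (brF 12288 (fun _ => C0_2) (brF 16384 (fun _ => C0_3) (fun _ => C0_4)))) (RngF.brK (K := K) (f0 := (fun _ => C0_0)) (f1 := (fun _ => C0_1)) r0_0 r0_1) (RngF.brK (K := K) (f0 := (fun _ => C0_2)) (f1 := (brF 16384 (fun _ => C0_3) (fun _ => C0_4))) r0_2 (RngF.brK (K := K) (f0 := (fun _ => C0_3)) (f1 := (fun _ => C0_4)) r0_3 r0_4))) (RngF.brK (K := K) (f0 := (brF 24576 (fun _ => C0_5) (fun _ => C0_6))) (f1 := (brF 32768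 (fun _ => C0_7) (brF 36864 (fun _ => C0_8) (fun _ => C0_9)))) (RngF.brK (K := K) (f0 := (fun _ => C0_5)) (f1 := (fun _ => C0_6)) r0_5 r0_6) (RngF.brK (K := K) (f0 := (fun _ => C0_7)) (f1 := (brF 36864 (fun _ => C0_8) (fun _ => C0_9))) r0_7 (RngF.brK (K := K) (f0 := (fun _ => C0_8)) (f1 := (fun _ => C0_9)) r0_8 r0_9))))
theorem r1 : RngF (fun i e => ∃ J, chkS (enF enL) E D W1 DL1 subs 38655 1 i e J = true) F1 0 40960 := (RngF.brK (K := K) (f0 := (brF 8192 (brF 4096 (fun _ => C1_0) (fun _ => C1_1)) (brF 12288 (fun _ => C1_2) (brF 16384 (fun _ => C1_3) (fun _ => C1_4))))) (f1 := (brF 28672 (brF 24576 (fun _ => C1_5) (fun _ => C1_6)) (brF 32768 (fun _ => C1_7) (brF 36864 (fun _ => C1_8) (fun _ => C1_9))))) (RngF.brK (K := K) (f0 := (brF 4096 (fun _ => C1_0) (fun _ => C1_1))) (f1 := (brF 12288 (fun _ => C1_2) (brF 16384 (fun _ => C1_3) (fun _ => C1_4)))) (RngF.brK (K := K) (f0 :=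 (fun _ => C1_0)) (f1 := (fun _ => C1_1)) r1_0 r1_1) (RngF.brK (K := K) (f0 := (fun _ => C1_2)) (f1 := (brF 16384 (fun _ => C1_3) (fun _ => C1_4))) r1_2 (RngF.brK (K := K) (f0 := (fun _ => C1_3)) (f1 := (fun _ => C1_4)) r1_3 r1_4))) (RngF.brK (K := K) (f0 := (brF 24576 (fun _ => C1_5) (fun _ => C1_6))) (f1 := (brF 32768 (fun _ => C1_7) (brF 36864 (fun _ => C1_8) (fun _ => C1_9)))) (RngF.brK (K := K) (f0 := (fun _ => C1_5)) (f1 := (fun _ => C1_6)) r1_5 r1_6) (RngF.brK (K := K) (f0 := (fun _ => C1_7)) (f1 := (brF 36864 (fun _ => C1_8) (fun _ => C1_9))) r1_7 (RngF.brK (K := K) (f0 := (fun _ => C1_8)) (f1 := (fun _ => C1_9)) r1_8 r1_9))))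
theorem r2 : RngF (fun i e => ∃ J, chkS (enF enL) E D W2 DL2 subs 38655 2 i e J = true) F2 0 40960 := (RngF.brK (K := K) (f0 := (brF 8192 (brF 4096 (fun _ => C2_0) (fun _ => C2_1)) (brF 12288 (fun _ => C2_2) (brF 16384 (fun _ => C2_3) (fun _ => C2_4))))) (f1 := (brF 28672 (brF 24576 (fun _ => C2_5) (fun _ => C2_6)) (brF 32768 (fun _ => C2_7) (brF 36864 (fun _ => C2_8) (fun _ => C2_9))))) (RngF.brK (K := K) (f0 := (brF 4096 (fun _ => C2_0) (fun _ => C2_1))) (f1 := (brF 12288 (fun _ => C2_2) (brF 16384 (fun _ => C2_3) (fun _ => C2_4)))) (RngF.brK (K := K) (f0 := (fun _ => C2_0)) (f1 := (fun _ => C2_1)) r2_0 r2_1) (RngF.brK (K := K) (f0 := (fun _ => C2_2)) (f1 := (brF 16384 (fun _ => C2_3) (fun _ => C2_4))) r2_2 (RngF.brK (K := K) (f0 := (fun _ => C2_3)) (f1 := (fun _ => C2_4)) r2_3 r2_4))) (RngF.brK (K := K) (f0 := (brF 24576 (fun _ => C2_5) (fun _ => C2_6))) (f1 := (brF 32768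 (fun _ => C2_7) (brF 36864 (fun _ => C2_8) (fun _ => C2_9)))) (RngF.brK (K := K) (f0 := (fun _ => C2_5)) (f1 := (fun _ => C2_6)) r2_5 r2_6) (RngF.brK (K := K) (f0 := (fun _ => C2_7)) (f1 := (brF 36864 (fun _ => C2_8) (fun _ => C2_9))) r2_7 (RngF.brK (K := K) (f0 := (fun _ => C2_8)) (f1 := (fun _ => C2_9)) r2_8 r2_9))))
theorem r3 : RngF (fun i e => ∃ J, chkS (enF enL) E D W3 DL3 subs 38655 3 i e J = true) F3 0 40960 := (RngF.brK (K := K) (f0 := (brF 8192 (brF 4096 (fun _ => C3_0) (fun _ => C3_1)) (brF 12288 (fun _ => C3_2) (brF 16384 (fun _ => C3_3) (fun _ => C3_4))))) (f1 := (brF 28672 (brF 24576 (fun _ => C3_5) (fun _ => C3_6)) (brF 32768 (fun _ => C3_7) (brF 36864 (fun _ => C3_8) (fun _ => C3_9))))) (RngF.brK (K := K) (f0 := (brF 4096 (fun _ => C3_0) (fun _ => C3_1))) (f1 := (brF 12288 (fun _ => C3_2) (brF 16384 (fun _ => C3_3) (fun _ => C3_4)))) (RngF.brK (K := K) (f0 :=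 (fun _ => C3_0)) (f1 := (fun _ => C3_1)) r3_0 r3_1) (RngF.brK (K := K) (f0 := (fun _ => C3_2)) (f1 := (brF 16384 (fun _ => C3_3) (fun _ => C3_4))) r3_2 (RngF.brK (K := K) (f0 := (fun _ => C3_3)) (f1 := (fun _ => C3_4)) r3_3 r3_4))) (RngF.brK (K := K) (f0 := (brF 24576 (fun _ => C3_5) (fun _ => C3_6))) (f1 := (brF 32768 (fun _ => C3_7) (brF 36864 (fun _ => C3_8) (fun _ => C3_9)))) (RngF.brK (K := K) (f0 := (fun _ => C3_5)) (f1 := (fun _ => C3_6)) r3_5 r3_6) (RngF.brK (K := K) (f0 := (fun _ => C3_7)) (f1 := (brF 36864 (fun _ => C3_8) (fun _ => C3_9))) r3_7 (RngF.brK (K := K) (f0 := (fun _ => C3_8)) (f1 := (fun _ => C3_9)) r3_8 r3_9))))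
theorem r4 : RngF (fun i e => ∃ J, chkS (enF enL) E D W4 DL4 subs 38655 4 i e J = true) F4 0 40960 := (RngF.brK (K := K) (f0 := (brF 8192 (brF 4096 (fun _ => C4_0) (fun _ => C4_1)) (brF 12288 (fun _ => C4_2) (brF 16384 (fun _ => C4_3) (fun _ => C4_4))))) (f1 := (brF 28672 (brF 24576 (fun _ => C4_5) (fun _ => C4_6)) (brF 32768 (fun _ => C4_7) (brF 36864 (fun _ => C4_8) (fun _ => C4_9))))) (RngF.brK (K := K) (f0 := (brF 4096 (fun _ => C4_0) (fun _ => C4_1))) (f1 := (brF 12288 (fun _ => C4_2) (brF 16384 (fun _ => C4_3) (fun _ => C4_4)))) (RngF.brK (K := K) (f0 := (fun _ => C4_0)) (f1 := (fun _ => C4_1)) r4_0 r4_1) (RngF.brK (K := K) (f0 := (fun _ => C4_2)) (f1 := (brF 16384 (fun _ => C4_3) (fun _ => C4_4))) r4_2 (RngF.brK (K := K) (f0 := (fun _ => C4_3)) (f1 := (fun _ => C4_4)) r4_3 r4_4))) (RngF.brK (K := K) (f0 := (brF 24576 (fun _ => C4_5) (fun _ => C4_6))) (f1 := (brF 32768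 (fun _ => C4_7) (brF 36864 (fun _ => C4_8) (fun _ => C4_9)))) (RngF.brK (K := K) (f0 := (fun _ => C4_5)) (f1 := (fun _ => C4_6)) r4_5 r4_6) (RngF.brK (K := K) (f0 := (fun _ => C4_7)) (f1 := (brF 36864 (fun _ => C4_8) (fun _ => C4_9))) r4_7 (RngF.brK (K := K) (f0 := (fun _ => C4_8)) (f1 := (fun _ => C4_9)) r4_8 r4_9))))
theorem r5 : RngF (fun i e => ∃ J, chkS (enF enL) E D W5 DL5 subs 38655 5 i e J = true) F5 0 40960 := (RngF.brK (K := K) (f0 := (brF 8192 (brF 4096 (fun _ => C5_0) (fun _ => C5_1)) (brF 12288 (fun _ => C5_2) (brF 16384 (fun _ => C5_3) (fun _ => C5_4))))) (f1 := (brF 28672 (brF 24576 (fun _ => C5_5) (fun _ => C5_6)) (brF 32768 (fun _ => C5_7) (brF 36864 (fun _ => C5_8) (fun _ => C5_9))))) (RngF.brK (K := K) (f0 := (brF 4096 (fun _ => C5_0) (fun _ => C5_1))) (f1 := (brF 12288 (fun _ => C5_2) (brF 16384 (fun _ => C5_3) (fun _ => C5_4)))) (RngF.brK (K := K) (f0 :=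 (fun _ => C5_0)) (f1 := (fun _ => C5_1)) r5_0 r5_1) (RngF.brK (K := K) (f0 := (fun _ => C5_2)) (f1 := (brF 16384 (fun _ => C5_3) (fun _ => C5_4))) r5_2 (RngF.brK (K := K) (f0 := (fun _ => C5_3)) (f1 := (fun _ => C5_4)) r5_3 r5_4))) (RngF.brK (K := K) (f0 := (brF 24576 (fun _ => C5_5) (fun _ => C5_6))) (f1 := (brF 32768 (fun _ => C5_7) (brF 36864 (fun _ => C5_8) (fun _ => C5_9)))) (RngF.brK (K := K) (f0 := (fun _ => C5_5)) (f1 := (fun _ => C5_6)) r5_5 r5_6) (RngF.brK (K := K) (f0 := (fun _ => C5_7)) (f1 := (brF 36864 (fun _ => C5_8) (fun _ => C5_9))) r5_7 (RngF.brK (K := K) (f0 := (fun _ => C5_8)) (f1 := (fun _ => C5_9)) r5_8 r5_9))))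
theorem r6 : RngF (fun i e => ∃ J, chkS (enF enL) E D W6 DL6 subs 38655 6 i e J = true) F6 0 40960 := (RngF.brK (K := K) (f0 := (brF 8192 (brF 4096 (fun _ => C6_0) (fun _ => C6_1)) (brF 12288 (fun _ => C6_2) (brF 16384 (fun _ => C6_3) (fun _ => C6_4))))) (f1 := (brF 28672 (brF 24576 (fun _ => C6_5) (fun _ => C6_6)) (brF 32768 (fun _ => C6_7) (brF 36864 (fun _ => C6_8) (fun _ => C6_9))))) (RngF.brK (K := K) (f0 := (brF 4096 (fun _ => C6_0) (fun _ => C6_1))) (f1 := (brF 12288 (fun _ => C6_2) (brF 16384 (fun _ => C6_3) (fun _ => C6_4)))) (RngF.brK (K := K) (f0 := (fun _ => C6_0)) (f1 := (fun _ => C6_1)) r6_0 r6_1) (RngF.brK (K := K) (f0 := (fun _ => C6_2)) (f1 := (brF 16384 (fun _ => C6_3) (fun _ => C6_4))) r6_2 (RngF.brK (K := K) (f0 := (fun _ => C6_3)) (f1 := (fun _ => C6_4)) r6_3 r6_4))) (RngF.brK (K := K) (f0 := (brF 24576 (fun _ => C6_5) (fun _ => C6_6))) (f1 := (brF 32768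 (fun _ => C6_7) (brF 36864 (fun _ => C6_8) (fun _ => C6_9)))) (RngF.brK (K := K) (f0 := (fun _ => C6_5)) (f1 := (fun _ => C6_6)) r6_5 r6_6) (RngF.brK (K := K) (f0 := (fun _ => C6_7)) (f1 := (brF 36864 (fun _ => C6_8) (fun _ => C6_9))) r6_7 (RngF.brK (K := K) (f0 := (fun _ => C6_8)) (f1 := (fun _ => C6_9)) r6_8 r6_9))))
theorem r7 : RngF (fun i e => ∃ J, chkS (enF enL) E D W7 DL7 subs 38655 7 i e J = true) F7 0 40960 := (RngF.brK (K := K) (f0 := (brF 8192 (brF 4096 (fun _ => C7_0) (fun _ => C7_1)) (brF 12288 (fun _ => C7_2) (brF 16384 (fun _ => C7_3) (fun _ => C7_4))))) (f1 := (brF 28672 (brF 24576 (fun _ => C7_5) (fun _ => C7_6)) (brF 32768 (fun _ => C7_7) (brF 36864 (fun _ => C7_8) (fun _ => C7_9))))) (RngF.brK (K := K) (f0 := (brF 4096 (fun _ => C7_0) (fun _ => C7_1))) (f1 := (brF 12288 (fun _ => C7_2) (brF 16384 (fun _ => C7_3) (fun _ => C7_4)))) (RngF.brK (K := K) (f0 :=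 (fun _ => C7_0)) (f1 := (fun _ => C7_1)) r7_0 r7_1) (RngF.brK (K := K) (f0 := (fun _ => C7_2)) (f1 := (brF 16384 (fun _ => C7_3) (fun _ => C7_4))) r7_2 (RngF.brK (K := K) (f0 := (fun _ => C7_3)) (f1 := (fun _ => C7_4)) r7_3 r7_4))) (RngF.brK (K := K) (f0 := (brF 24576 (fun _ => C7_5) (fun _ => C7_6))) (f1 := (brF 32768 (fun _ => C7_7) (brF 36864 (fun _ => C7_8) (fun _ => C7_9)))) (RngF.brK (K := K) (f0 := (fun _ => C7_5)) (f1 := (fun _ => C7_6)) r7_5 r7_6) (RngF.brK (K := K) (f0 := (fun _ => C7_7)) (f1 := (brF 36864 (fun _ => C7_8) (fun _ => C7_9))) r7_7 (RngF.brK (K := K) (f0 := (fun _ => C7_8)) (f1 := (fun _ => C7_9)) r7_8 r7_9))))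
theorem r8 : RngF (fun i e => ∃ J, chkS (enF enL) E D W8 DL8 subs 38655 8 i e J = true) F8 0 40960 := (RngF.brK (K := K) (f0 := (brF 8192 (brF 4096 (fun _ => C8_0) (fun _ => C8_1)) (brF 12288 (fun _ => C8_2) (brF 16384 (fun _ => C8_3) (fun _ => C8_4))))) (f1 := (brF 28672 (brF 24576 (fun _ => C8_5) (fun _ => C8_6)) (brF 32768 (fun _ => C8_7) (brF 36864 (fun _ => C8_8) (fun _ => C8_9))))) (RngF.brK (K := K) (f0 := (brF 4096 (fun _ => C8_0) (fun _ => C8_1))) (f1 := (brF 12288 (fun _ => C8_2) (brF 16384 (fun _ => C8_3) (fun _ => C8_4)))) (RngF.brK (K := K) (f0 := (fun _ => C8_0)) (f1 := (fun _ => C8_1)) r8_0 r8_1) (RngF.brK (K := K) (f0 := (fun _ => C8_2)) (f1 := (brF 16384 (fun _ => C8_3) (fun _ => C8_4))) r8_2 (RngF.brK (K := K) (f0 := (fun _ => C8_3)) (f1 := (fun _ => C8_4)) r8_3 r8_4))) (RngF.brK (K := K) (f0 := (brF 24576 (fun _ => C8_5) (fun _ => C8_6))) (f1 := (brF 32768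 (fun _ => C8_7) (brF 36864 (fun _ => C8_8) (fun _ => C8_9)))) (RngF.brK (K := K) (f0 := (fun _ => C8_5)) (f1 := (fun _ => C8_6)) r8_5 r8_6) (RngF.brK (K := K) (f0 := (fun _ => C8_7)) (f1 := (brF 36864 (fun _ => C8_8) (fun _ => C8_9))) r8_7 (RngF.brK (K := K) (f0 := (fun _ => C8_8)) (f1 := (fun _ => C8_9)) r8_8 r8_9))))
theorem r9 : RngF (fun i e => ∃ J, chkS (enF enL) E D W9 DL9 subs 38655 9 i e J = true) F9 0 40960 := (RngF.brK (K := K) (f0 := (brF 8192 (brF 4096 (fun _ => C9_0) (fun _ => C9_1)) (brF 12288 (fun _ => C9_2) (brF 16384 (fun _ => C9_3) (fun _ => C9_4))))) (f1 := (brF 28672 (brF 24576 (fun _ => C9_5) (fun _ => C9_6)) (brF 32768 (fun _ => C9_7) (brF 36864 (fun _ => C9_8) (fun _ => C9_9))))) (RngF.brK (K := K) (f0 := (brF 4096 (fun _ => C9_0) (fun _ => C9_1))) (f1 := (brF 12288 (fun _ => C9_2) (brF 16384 (fun _ => C9_3) (fun _ => C9_4)))) (RngF.brK (K := K) (f0 :=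 (fun _ => C9_0)) (f1 := (fun _ => C9_1)) r9_0 r9_1) (RngF.brK (K := K) (f0 := (fun _ => C9_2)) (f1 := (brF 16384 (fun _ => C9_3) (fun _ => C9_4))) r9_2 (RngF.brK (K := K) (f0 := (fun _ => C9_3)) (f1 := (fun _ => C9_4)) r9_3 r9_4))) (RngF.brK (K := K) (f0 := (brF 24576 (fun _ => C9_5) (fun _ => C9_6))) (f1 := (brF 32768 (fun _ => C9_7) (brF 36864 (fun _ => C9_8) (fun _ => C9_9)))) (RngF.brK (K := K) (f0 := (fun _ => C9_5)) (f1 := (fun _ => C9_6)) r9_5 r9_6) (RngF.brK (K := K) (f0 := (fun _ => C9_7)) (f1 := (brF 36864 (fun _ => C9_8) (fun _ => C9_9))) r9_7 (RngF.brK (K := K) (f0 := (fun _ => C9_8)) (f1 := (fun _ => C9_9)) r9_8 r9_9))))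
theorem rE : RngF (fun i e => ∃ J, chkQ (enF enL) E WEL subE 38655 i e J = true) E 0 40960 := (RngF.brK (K := K) (f0 := (brF 8192 (brF 4096 (fun _ => CE_0) (fun _ => CE_1)) (brF 12288 (fun _ => CE_2) (brF 16384 (fun _ => CE_3) (fun _ => CE_4))))) (f1 := (brF 28672 (brF 24576 (fun _ => CE_5) (fun _ => CE_6)) (brF 32768 (fun _ => CE_7) (brF 36864 (fun _ => CE_8) (fun _ => CE_9))))) (RngF.brK (K := K) (f0 := (brF 4096 (fun _ => CE_0) (fun _ => CE_1))) (f1 := (brF 12288 (fun _ => CE_2) (brF 16384 (fun _ => CE_3) (fun _ => CE_4)))) (RngF.brK (K := K) (f0 := (fun _ => CE_0)) (f1 := (fun _ => CE_1)) rE_0 rE_1) (RngF.brK (K := K) (f0 := (fun _ => CE_2)) (f1 := (brF 16384 (fun _ => CE_3) (fun _ => CE_4))) rE_2 (RngF.brK (K := K) (f0 := (fun _ => CE_3)) (f1 := (fun _ => CE_4)) rE_3 rE_4))) (RngF.brK (K := K) (f0 := (brF 24576 (fun _ => CE_5) (fun _ => CE_6))) (f1 := (brF 32768 (fun _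 => CE_7) (brF 36864 (fun _ => CE_8) (fun _ => CE_9)))) (RngF.brK (K := K) (f0 := (fun _ => CE_5)) (f1 := (fun _ => CE_6)) rE_5 rE_6) (RngF.brK (K := K) (f0 := (fun _ => CE_7)) (f1 := (brF 36864 (fun _ => CE_8) (fun _ => CE_9))) rE_7 (RngF.brK (K := K) (f0 := (fun _ => CE_8)) (f1 := (fun _ => CE_9)) rE_8 rE_9))))

theorem hslot : ∀ g, g < gens.length → ∃ wl dl, wl = (WA.getD g []).map (List.map (enF enL)) ∧ dl = [id g].map (enF enL) ∧
    RngF (fun i e => ∃ J, chkS (enF enL) E D wl dl subs 38655 g i e J = true) (enF enL g) 0 (38655 + 1) := by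
  intro g hg
  change g < 10 at hg
  interval_cases g
  · exact ⟨W0, DL0, hW0, rfl, r0.mono (by norm_num)⟩
  · exact ⟨W1, DL1, hW1, rfl, r1.mono (by norm_num)⟩
  · exact ⟨W2, DL2, hW2, rfl, r2.mono (by norm_num)⟩
  · exact ⟨W3, DL3, hW3, rfl, r3.mono (by norm_num)⟩
  · exact ⟨W4, DL4, hW4, rfl, r4.mono (by norm_num)⟩
  · exact ⟨W5, DL5, hW5, rfl, r5.mono (by norm_num)⟩
  · exact ⟨W6, DL6, hW6, rfl, r6.mono (by norm_num)⟩
  · exact ⟨W7, DL7, hW7, rfl, r7.mono (by norm_num)⟩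
  · exact ⟨W8, DL8, hW8, rfl, r8.mono (by norm_num)⟩
  · exact ⟨W9, DL9, hW9, rfl, r9.mono (by norm_num)⟩

theorem facts : Facts (enF nxL) id 31671 gens.length 18 defs eqs bs hl (0 :: bs) :=
  facts_of_rng Z hZ (RngF.app (RngF.app (RngF.app z0 z1) (RngF.app z2 z3)) (RngF.app (RngF.app z4 z5) (RngF.app z6 z7))) (by norm_num)

theorem upper (H : Subgroup (CoxPresented Cfsg.Spor.Fi23.Gen Cfsg.Spor.Fi23.edges Cfsg.Spor.Fi23.extra))
    (hH : H = Subgroup.closure {x | ∃ w ∈ hw, x = wp (ell gens (gn Cfsg.Spor.Fi23.edges Cfsg.Spor.Fi23.extra)) w}) :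
    H.FiniteIndex ∧ H.index ≤ 31671 :=
  H34.T2.cox_upper hg hn H hw hH base hbase 38655 31671 16 enL E D WA HA WE HE subs subE WEL (by decide) (by norm_num) (by norm_num) (by norm_num) rfl
    (by decide +kernel) (by decide +kernel) (by decide +kernel) (by decide +kernel) (by decide +kernel) (by decide +kernel) (by decide +kernel) hWEL hslot (rE.mono (by norm_num)) (nbeq cN)

theorem main (H : Subgroup (CoxPresented Cfsg.Spor.Fi23.Gen Cfsg.Spor.Fi23.edges Cfsg.Spor.Fi23.extra))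
    (hH : H = Subgroup.closure {x | ∃ w ∈ hw, x = wp (ell gens (gn Cfsg.Spor.Fi23.edges Cfsg.Spor.Fi23.extra)) w}) :
    H.index = 31671 ∧ ∃ (φ : CoxPresented Cfsg.Spor.Fi23.Gen Cfsg.Spor.Fi23.edges Cfsg.Spor.Fi23.extra →* Equiv.Perm (Fin 31671))
      (e : CoxPresented Cfsg.Spor.Fi23.Gen Cfsg.Spor.Fi23.edges Cfsg.Spor.Fi23.extra ⧸ H ≃ Fin 31671),
      IsPermT (enF nxL) 31671 18 ∧
      (∀ g < gens.length, φ (ell gens (gn Cfsg.Spor.Fi23.edges Cfsg.Spor.Fi23.extra) g) = permT (enF nxL) 31671 g) ∧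
      (∀ (g : CoxPresented Cfsg.Spor.Fi23.Gen Cfsg.Spor.Fi23.edges Cfsg.Spor.Fi23.extra) (q : CoxPresented Cfsg.Spor.Fi23.Gen Cfsg.Spor.Fi23.edges Cfsg.Spor.Fi23.extra ⧸ H), e (g • q) = φ g (e q)) ∧
      e ((1 : CoxPresented Cfsg.Spor.Fi23.Gen Cfsg.Spor.Fi23.edges Cfsg.Spor.Fi23.extra) : CoxPresented Cfsg.Spor.Fi23.Gen Cfsg.Spor.Fi23.edges Cfsg.Spor.Fi23.extra ⧸ H) = ⟨0, by norm_num⟩ ∧
      (∀ i : Fin 31671, ∃ g, φ g ⟨0, by norm_num⟩ = i) ∧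
      ∀ (lo hi : Nat) (hlo : lo < 31671), hi ≤ 31671 → blkOK bs lo hi 31671 = true →
        (MulAction.orbit H (e.symm ⟨lo, hlo⟩)).ncard = hi - lo ∧
        ∀ q, q ∈ MulAction.orbit H (e.symm ⟨lo, hlo⟩) ↔ (lo ≤ (e q : Nat) ∧ (e q : Nat) < hi) :=
  H34.T2.cox_exact hg hnd H hw hH base hrel 31671 (by norm_num) (upper H hH) nxL 18 defs exps eqs bs hl facts
    (by decide +kernel) (by decide +kernel) (by decide +kernel) (by decide +kernel) (by decide +kernel)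

end H34.Fi23a
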