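import Cfsg.Agent.Lib.H34.Fi23a.PData

set_option autoImplicit false
set_option maxRecDepth 100000
set_option Elab.async false

noncomputable section

namespace H34.Fi23a

open H34.T2

theorem v495 : loop2 (fun i => Nat.beq (Z i) 0) 2 16 15840 = true := by decide +kernel
theorem v496 : loop2 (fun i => Nat.beq (Z i) 0) 2 16 15872 = true := by decide +kernel
theorem v497 : loop2 (fun i => Nat.beq (Z i) 0) 2 16 15904 = true := by decide +kernel
theorem v498 : loop2 (fun i => Nat.beq (Z i) 0) 2 16 15936 = true := by decide +kernel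
theorem v499 : loop2 (fun i => Nat.beq (Z i) 0) 2 16 15968 = true := by decide +kernel
theorem v500 : loop2 (fun i => Nat.beq (Z i) 0) 2 16 16000 = true := by decide +kernel
theorem v501 : loop2 (fun i => Nat.beq (Z i) 0) 2 16 16032 = true := by decide +kernel
theorem v502 : loop2 (fun i => Nat.beq (Z i) 0) 2 16 16064 = true := by decide +kernel
theorem v503 : loop2 (fun i => Nat.beq (Z i) 0) 2 16 16096 = true := by decide +kernel
theorem v504 : loop2 (fun i => Nat.beq (Z i) 0) 2 16 16128 = true := by decide +kernel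
theorem v505 : loop2 (fun i => Nat.beq (Z i) 0) 2 16 16160 = true := by decide +kernel
theorem v506 : loop2 (fun i => Nat.beq (Z i) 0) 2 16 16192 = true := by decide +kernel
theorem v507 : loop2 (fun i => Nat.beq (Z i) 0) 2 16 16224 = true := by decide +kernel
theorem v508 : loop2 (fun i => Nat.beq (Z i) 0) 2 16 16256 = true := by decide +kernel
theorem v509 : loop2 (fun i => Nat.beq (Z i) 0) 2 16 16288 = true := by decide +kernel
theorem v510 : loop2 (fun i => Nat.beq (Z i) 0) 2 16 16320 = true := by decide +kernel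
theorem v511 : loop2 (fun i => Nat.beq (Z i) 0) 2 16 16352 = true := by decide +kernel
theorem v512 : loop2 (fun i => Nat.beq (Z i) 0) 2 16 16384 = true := by decide +kernel
theorem v513 : loop2 (fun i => Nat.beq (Z i) 0) 2 16 16416 = true := by decide +kernel
theorem v514 : loop2 (fun i => Nat.beq (Z i) 0) 2 16 16448 = true := by decide +kernel
theorem v515 : loop2 (fun i => Nat.beq (Z i) 0) 2 16 16480 = true := by decide +kernel
theorem v516 : loop2 (fun i => Nat.beq (Z i) 0) 2 16 16512 = true := by decide +kernel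
theorem v517 : loop2 (fun i => Nat.beq (Z i) 0) 2 16 16544 = true := by decide +kernel
theorem v518 : loop2 (fun i => Nat.beq (Z i) 0) 2 16 16576 = true := by decide +kernel
theorem v519 : loop2 (fun i => Nat.beq (Z i) 0) 2 16 16608 = true := by decide +kernel
theorem v520 : loop2 (fun i => Nat.beq (Z i) 0) 2 16 16640 = true := by decide +kernel
theorem v521 : loop2 (fun i => Nat.beq (Z i) 0) 2 16 16672 = true := by decide +kernel
theorem v522 : loop2 (fun i => Nat.beq (Z i) 0) 2 16 16704 = true := by decide +kernel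
theorem v523 : loop2 (fun i => Nat.beq (Z i) 0) 2 16 16736 = true := by decide +kernel
theorem v524 : loop2 (fun i => Nat.beq (Z i) 0) 2 16 16768 = true := by decide +kernel
theorem v525 : loop2 (fun i => Nat.beq (Z i) 0) 2 16 16800 = true := by decide +kernel
theorem v526 : loop2 (fun i => Nat.beq (Z i) 0) 2 16 16832 = true := by decide +kernel
theorem v527 : loop2 (fun i => Nat.beq (Z i) 0) 2 16 16864 = true := by decide +kernel
theorem v528 : loop2 (fun i => Nat.beq (Z i) 0) 2 16 16896 = true := by decide +kernel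
theorem v529 : loop2 (fun i => Nat.beq (Z i) 0) 2 16 16928 = true := by decide +kernel
theorem v530 : loop2 (fun i => Nat.beq (Z i) 0) 2 16 16960 = true := by decide +kernel
theorem v531 : loop2 (fun i => Nat.beq (Z i) 0) 2 16 16992 = true := by decide +kernel
theorem v532 : loop2 (fun i => Nat.beq (Z i) 0) 2 16 17024 = true := by decide +kernel
theorem v533 : loop2 (fun i => Nat.beq (Z i) 0) 2 16 17056 = true := by decide +kernel
theorem v534 : loop2 (fun i => Nat.beq (Z i) 0) 2 16 17088 = true := by decide +kernel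
theorem v535 : loop2 (fun i => Nat.beq (Z i) 0) 2 16 17120 = true := by decide +kernel
theorem v536 : loop2 (fun i => Nat.beq (Z i) 0) 2 16 17152 = true := by decide +kernel
theorem v537 : loop2 (fun i => Nat.beq (Z i) 0) 2 16 17184 = true := by decide +kernel
theorem v538 : loop2 (fun i => Nat.beq (Z i) 0) 2 16 17216 = true := by decide +kernel
theorem v539 : loop2 (fun i => Nat.beq (Z i) 0) 2 16 17248 = true := by decide +kernel
theorem v540 : loop2 (fun i => Nat.beq (Z i) 0) 2 16 17280 = true := by decide +kernel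
theorem v541 : loop2 (fun i => Nat.beq (Z i) 0) 2 16 17312 = true := by decide +kernel
theorem v542 : loop2 (fun i => Nat.beq (Z i) 0) 2 16 17344 = true := by decide +kernel
theorem v543 : loop2 (fun i => Nat.beq (Z i) 0) 2 16 17376 = true := by decide +kernel
theorem v544 : loop2 (fun i => Nat.beq (Z i) 0) 2 16 17408 = true := by decide +kernel
theorem v545 : loop2 (fun i => Nat.beq (Z i) 0) 2 16 17440 = true := by decide +kernel
theorem v546 : loop2 (fun i => Nat.beq (Z i) 0) 2 16 17472 = true := by decide +kernel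
theorem v547 : loop2 (fun i => Nat.beq (Z i) 0) 2 16 17504 = true := by decide +kernel
theorem v548 : loop2 (fun i => Nat.beq (Z i) 0) 2 16 17536 = true := by decide +kernel
theorem v549 : loop2 (fun i => Nat.beq (Z i) 0) 2 16 17568 = true := by decide +kernel
theorem v550 : loop2 (fun i => Nat.beq (Z i) 0) 2 16 17600 = true := by decide +kernel
theorem v551 : loop2 (fun i => Nat.beq (Z i) 0) 2 16 17632 = true := by decide +kernel
theorem v552 : loop2 (fun i => Nat.beq (Z i) 0) 2 16 17664 = true := by decide +kernel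
theorem v553 : loop2 (fun i => Nat.beq (Z i) 0) 2 16 17696 = true := by decide +kernel
theorem v554 : loop2 (fun i => Nat.beq (Z i) 0) 2 16 17728 = true := by decide +kernel
theorem v555 : loop2 (fun i => Nat.beq (Z i) 0) 2 16 17760 = true := by decide +kernel
theorem v556 : loop2 (fun i => Nat.beq (Z i) 0) 2 16 17792 = true := by decide +kernel
theorem v557 : loop2 (fun i => Nat.beq (Z i) 0) 2 16 17824 = true := by decide +kernel
theorem v558 : loop2 (fun i => Nat.beq (Z i) 0) 2 16 17856 = true := by decide +kernel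
theorem v559 : loop2 (fun i => Nat.beq (Z i) 0) 2 16 17888 = true := by decide +kernel
theorem v560 : loop2 (fun i => Nat.beq (Z i) 0) 2 16 17920 = true := by decide +kernel
theorem v561 : loop2 (fun i => Nat.beq (Z i) 0) 2 16 17952 = true := by decide +kernel
theorem v562 : loop2 (fun i => Nat.beq (Z i) 0) 2 16 17984 = true := by decide +kernel
theorem v563 : loop2 (fun i => Nat.beq (Z i) 0) 2 16 18016 = true := by decide +kernel
theorem v564 : loop2 (fun i => Nat.beq (Z i) 0) 2 16 18048 = true := by decide +kernel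
theorem v565 : loop2 (fun i => Nat.beq (Z i) 0) 2 16 18080 = true := by decide +kernel
theorem v566 : loop2 (fun i => Nat.beq (Z i) 0) 2 16 18112 = true := by decide +kernel
theorem v567 : loop2 (fun i => Nat.beq (Z i) 0) 2 16 18144 = true := by decide +kernel
theorem v568 : loop2 (fun i => Nat.beq (Z i) 0) 2 16 18176 = true := by decide +kernel
theorem v569 : loop2 (fun i => Nat.beq (Z i) 0) 2 16 18208 = true := by decide +kernel
theorem v570 : loop2 (fun i => Nat.beq (Z i) 0) 2 16 18240 = true := by decide +kernel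
theorem v571 : loop2 (fun i => Nat.beq (Z i) 0) 2 16 18272 = true := by decide +kernel
theorem v572 : loop2 (fun i => Nat.beq (Z i) 0) 2 16 18304 = true := by decide +kernel
theorem v573 : loop2 (fun i => Nat.beq (Z i) 0) 2 16 18336 = true := by decide +kernel
theorem v574 : loop2 (fun i => Nat.beq (Z i) 0) 2 16 18368 = true := by decide +kernel
theorem v575 : loop2 (fun i => Nat.beq (Z i) 0) 2 16 18400 = true := by decide +kernel
theorem v576 : loop2 (fun i => Nat.beq (Z i) 0) 2 16 18432 = true := by decide +kernel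
theorem v577 : loop2 (fun i => Nat.beq (Z i) 0) 2 16 18464 = true := by decide +kernel
theorem v578 : loop2 (fun i => Nat.beq (Z i) 0) 2 16 18496 = true := by decide +kernel
theorem v579 : loop2 (fun i => Nat.beq (Z i) 0) 2 16 18528 = true := by decide +kernel
theorem v580 : loop2 (fun i => Nat.beq (Z i) 0) 2 16 18560 = true := by decide +kernel
theorem v581 : loop2 (fun i => Nat.beq (Z i) 0) 2 16 18592 = true := by decide +kernel
theorem v582 : loop2 (fun i => Nat.beq (Z i) 0) 2 16 18624 = true := by decide +kernel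
theorem v583 : loop2 (fun i => Nat.beq (Z i) 0) 2 16 18656 = true := by decide +kernel
theorem v584 : loop2 (fun i => Nat.beq (Z i) 0) 2 16 18688 = true := by decide +kernel
theorem v585 : loop2 (fun i => Nat.beq (Z i) 0) 2 16 18720 = true := by decide +kernel
theorem v586 : loop2 (fun i => Nat.beq (Z i) 0) 2 16 18752 = true := by decide +kernel
theorem v587 : loop2 (fun i => Nat.beq (Z i) 0) 2 16 18784 = true := by decide +kernel
theorem v588 : loop2 (fun i => Nat.beq (Z i) 0) 2 16 18816 = true := by decide +kernel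
theorem v589 : loop2 (fun i => Nat.beq (Z i) 0) 2 16 18848 = true := by decide +kernel
theorem v590 : loop2 (fun i => Nat.beq (Z i) 0) 2 16 18880 = true := by decide +kernel
theorem v591 : loop2 (fun i => Nat.beq (Z i) 0) 2 16 18912 = true := by decide +kernel
theorem v592 : loop2 (fun i => Nat.beq (Z i) 0) 2 16 18944 = true := by decide +kernel
theorem v593 : loop2 (fun i => Nat.beq (Z i) 0) 2 16 18976 = true := by decide +kernel
theorem v594 : loop2 (fun i => Nat.beq (Z i) 0) 2 16 19008 = true := by decide +kernel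
theorem v595 : loop2 (fun i => Nat.beq (Z i) 0) 2 16 19040 = true := by decide +kernel
theorem v596 : loop2 (fun i => Nat.beq (Z i) 0) 2 16 19072 = true := by decide +kernel
theorem v597 : loop2 (fun i => Nat.beq (Z i) 0) 2 16 19104 = true := by decide +kernel
theorem v598 : loop2 (fun i => Nat.beq (Z i) 0) 2 16 19136 = true := by decide +kernel
theorem v599 : loop2 (fun i => Nat.beq (Z i) 0) 2 16 19168 = true := by decide +kernel
theorem v600 : loop2 (fun i => Nat.beq (Z i) 0) 2 16 19200 = true := by decide +kernel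
theorem v601 : loop2 (fun i => Nat.beq (Z i) 0) 2 16 19232 = true := by decide +kernel
theorem v602 : loop2 (fun i => Nat.beq (Z i) 0) 2 16 19264 = true := by decide +kernel
theorem v603 : loop2 (fun i => Nat.beq (Z i) 0) 2 16 19296 = true := by decide +kernel
theorem v604 : loop2 (fun i => Nat.beq (Z i) 0) 2 16 19328 = true := by decide +kernel
theorem v605 : loop2 (fun i => Nat.beq (Z i) 0) 2 16 19360 = true := by decide +kernel
theorem v606 : loop2 (fun i => Nat.beq (Z i) 0) 2 16 19392 = true := by decide +kernel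
theorem v607 : loop2 (fun i => Nat.beq (Z i) 0) 2 16 19424 = true := by decide +kernel
theorem v608 : loop2 (fun i => Nat.beq (Z i) 0) 2 16 19456 = true := by decide +kernel
theorem v609 : loop2 (fun i => Nat.beq (Z i) 0) 2 16 19488 = true := by decide +kernel
theorem v610 : loop2 (fun i => Nat.beq (Z i) 0) 2 16 19520 = true := by decide +kernel
theorem v611 : loop2 (fun i => Nat.beq (Z i) 0) 2 16 19552 = true := by decide +kernel
theorem v612 : loop2 (fun i => Nat.beq (Z i) 0) 2 16 19584 = true := by decide +kernel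
theorem v613 : loop2 (fun i => Nat.beq (Z i) 0) 2 16 19616 = true := by decide +kernel
theorem v614 : loop2 (fun i => Nat.beq (Z i) 0) 2 16 19648 = true := by decide +kernel
theorem v615 : loop2 (fun i => Nat.beq (Z i) 0) 2 16 19680 = true := by decide +kernel
theorem v616 : loop2 (fun i => Nat.beq (Z i) 0) 2 16 19712 = true := by decide +kernel
theorem v617 : loop2 (fun i => Nat.beq (Z i) 0) 2 16 19744 = true := by decide +kernel
theorem z4 : RngF (fun _ z => z = 0) Z 15840 19776 := (RngF.app (RngF.app (RngF.app (RngF.app (RngF.app (RngF.app (rngZ_of_loop 15872 v495 rfl) (RngF.app (rngZ_of_loop 15904 v496 rfl) (rngZ_of_loop 15936 v497 rfl))) (RngF.app (RngF.app (rngZ_of_loop 15968 v498 rfl) (rngZ_of_loop 16000 v499 rfl)) (RngF.app (rngZ_of_loop 16032 v500 rfl) (rngZ_of_loop 16064 v501 rfl)))) (RngF.app (RngF.app (RngF.app (rngZ_of_loop 16096 v502 rfl) (rngZ_of_loop 16128 v503 rfl)) (RngF.app (rngZ_of_loop 16160 v504 rfl) (rngZ_of_loop 16192 v505 rfl))) (RngF.app (RngF.app (rngZ_of_loop 16224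 v506 rfl) (rngZ_of_loop 16256 v507 rfl)) (RngF.app (rngZ_of_loop 16288 v508 rfl) (rngZ_of_loop 16320 v509 rfl))))) (RngF.app (RngF.app (RngF.app (rngZ_of_loop 16352 v510 rfl) (RngF.app (rngZ_of_loop 16384 v511 rfl) (rngZ_of_loop 16416 v512 rfl))) (RngF.app (RngF.app (rngZ_of_loop 16448 v513 rfl) (rngZ_of_loop 16480 v514 rfl)) (RngF.app (rngZ_of_loop 16512 v515 rfl) (rngZ_of_loop 16544 v516 rfl)))) (RngF.app (RngF.app (RngF.app (rngZ_of_loop 16576 v517 rfl) (rngZ_of_loop 16608 v518 rfl)) (RngF.app (rngZ_of_loop 16640 v519 rfl) (rngZ_of_loop 16672 v520 rfl))) (RngF.app (RngF.app (rngZ_of_loop 16704 v521 rfl) (rngZ_of_loop 16736 v522 rfl)) (RngF.app (rngZ_of_loop 16768 v523 rfl) (rngZ_of_loop 16800 v524 rfl)))))) (RngF.app (RngF.app (RngF.app (RngF.app (rngZ_of_loop 16832 v525 rfl) (RngF.app (rngZ_of_loop 16864 v526 rfl) (rngZ_of_loop 16896 v527 rfl))) (RngF.app (RngF.app (rngZ_of_loop 16928 v528 rfl) (rngZ_of_loop 16960 v529 rfl)) (RngF.app (rngZ_of_loop 16992 v530 rfl) (rngZ_of_loop 17024 v531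 rfl)))) (RngF.app (RngF.app (RngF.app (rngZ_of_loop 17056 v532 rfl) (rngZ_of_loop 17088 v533 rfl)) (RngF.app (rngZ_of_loop 17120 v534 rfl) (rngZ_of_loop 17152 v535 rfl))) (RngF.app (RngF.app (rngZ_of_loop 17184 v536 rfl) (rngZ_of_loop 17216 v537 rfl)) (RngF.app (rngZ_of_loop 17248 v538 rfl) (rngZ_of_loop 17280 v539 rfl))))) (RngF.app (RngF.app (RngF.app (RngF.app (rngZ_of_loop 17312 v540 rfl) (rngZ_of_loop 17344 v541 rfl)) (RngF.app (rngZ_of_loop 17376 v542 rfl) (rngZ_of_loop 17408 v543 rfl))) (RngF.app (RngF.app (rngZ_of_loop 17440 v544 rfl) (rngZ_of_loop 17472 v545 rfl)) (RngF.app (rngZ_of_loop 17504 v546 rfl) (rngZ_of_loop 17536 v547 rfl)))) (RngF.app (RngF.app (RngF.app (rngZ_of_loop 17568 v548 rfl) (rngZ_of_loop 17600 v549 rfl)) (RngF.app (rngZ_of_loop 17632 v550 rfl) (rngZ_of_loop 17664 v551 rfl))) (RngF.app (RngF.app (rngZ_of_loop 17696 v552 rfl) (rngZ_of_loop 17728 v553 rfl)) (RngF.app (rngZ_of_loop 17760 v554 rfl) (rngZ_of_loop 17792 v555 rfl))))))) (RngF.app (RngF.app (RngF.app (RngF.app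 (RngF.app (rngZ_of_loop 17824 v556 rfl) (RngF.app (rngZ_of_loop 17856 v557 rfl) (rngZ_of_loop 17888 v558 rfl))) (RngF.app (RngF.app (rngZ_of_loop 17920 v559 rfl) (rngZ_of_loop 17952 v560 rfl)) (RngF.app (rngZ_of_loop 17984 v561 rfl) (rngZ_of_loop 18016 v562 rfl)))) (RngF.app (RngF.app (RngF.app (rngZ_of_loop 18048 v563 rfl) (rngZ_of_loop 18080 v564 rfl)) (RngF.app (rngZ_of_loop 18112 v565 rfl) (rngZ_of_loop 18144 v566 rfl))) (RngF.app (RngF.app (rngZ_of_loop 18176 v567 rfl) (rngZ_of_loop 18208 v568 rfl)) (RngF.app (rngZ_of_loop 18240 v569 rfl) (rngZ_of_loop 18272 v570 rfl))))) (RngF.app (RngF.app (RngF.app (RngF.app (rngZ_of_loop 18304 v571 rfl) (rngZ_of_loop 18336 v572 rfl)) (RngF.app (rngZ_of_loop 18368 v573 rfl) (rngZ_of_loop 18400 v574 rfl))) (RngF.app (RngF.app (rngZ_of_loop 18432 v575 rfl) (rngZ_of_loop 18464 v576 rfl)) (RngF.app (rngZ_of_loop 18496 v577 rfl) (rngZ_of_loop 18528 v578 rfl)))) (RngF.app (RngF.app (RngF.app (rngZ_of_loop 18560 v579 rfl) (rngZ_of_loop 18592 v580 rfl)) (RngF.app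 (rngZ_of_loop 18624 v581 rfl) (rngZ_of_loop 18656 v582 rfl))) (RngF.app (RngF.app (rngZ_of_loop 18688 v583 rfl) (rngZ_of_loop 18720 v584 rfl)) (RngF.app (rngZ_of_loop 18752 v585 rfl) (rngZ_of_loop 18784 v586 rfl)))))) (RngF.app (RngF.app (RngF.app (RngF.app (rngZ_of_loop 18816 v587 rfl) (RngF.app (rngZ_of_loop 18848 v588 rfl) (rngZ_of_loop 18880 v589 rfl))) (RngF.app (RngF.app (rngZ_of_loop 18912 v590 rfl) (rngZ_of_loop 18944 v591 rfl)) (RngF.app (rngZ_of_loop 18976 v592 rfl) (rngZ_of_loop 19008 v593 rfl)))) (RngF.app (RngF.app (RngF.app (rngZ_of_loop 19040 v594 rfl) (rngZ_of_loop 19072 v595 rfl)) (RngF.app (rngZ_of_loop 19104 v596 rfl) (rngZ_of_loop 19136 v597 rfl))) (RngF.app (RngF.app (rngZ_of_loop 19168 v598 rfl) (rngZ_of_loop 19200 v599 rfl)) (RngF.app (rngZ_of_loop 19232 v600 rfl) (rngZ_of_loop 19264 v601 rfl))))) (RngF.app (RngF.app (RngF.app (RngF.app (rngZ_of_loop 19296 v602 rfl) (rngZ_of_loop 19328 v603 rfl)) (RngF.app (rngZ_of_loop 19360 v604 rfl) (rngZ_of_loop 19392 v605 rfl)))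 (RngF.app (RngF.app (rngZ_of_loop 19424 v606 rfl) (rngZ_of_loop 19456 v607 rfl)) (RngF.app (rngZ_of_loop 19488 v608 rfl) (rngZ_of_loop 19520 v609 rfl)))) (RngF.app (RngF.app (RngF.app (rngZ_of_loop 19552 v610 rfl) (rngZ_of_loop 19584 v611 rfl)) (RngF.app (rngZ_of_loop 19616 v612 rfl) (rngZ_of_loop 19648 v613 rfl))) (RngF.app (RngF.app (rngZ_of_loop 19680 v614 rfl) (rngZ_of_loop 19712 v615 rfl)) (RngF.app (rngZ_of_loop 19744 v616 rfl) (rngZ_of_loop 19776 v617 rfl))))))))

end H34.Fi23a
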